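import Mathlib
import Cfsg.Agent.H777.M5.Sit

/-!
# Lifting the relations of `RelH` through a central extension by a group of order two
(helper961; task 2146 of helper777)
-/

set_option autoImplicit false

namespace Cfsg.Agent.H961.M5.CAbs

open Subgroup
open Cfsg.Agent.H777.M5

/-- the relations modulo the centre -/
structure RelK {K : Type*} [Group K] (i c b b' a u : K) : Prop where
  c3 : c ^ 3 = 1
  b5 : b ^ 5 = 1
  b'5 : b' ^ 5 = 1
  a5 : a ^ 5 = 1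
  i2 : i * i = 1
  ib : i * b = b * i
  ib' : i * b' = b' * i
  cb : c * b = b * c
  cb' : c * b' = b' * c
  cj : c * (c * i * c⁻¹) * c⁻¹ = i * (c * i * c⁻¹)
  ab : a * b = b * a
  ia : i * a * i⁻¹ = a⁻¹
  ja : (c * i * c⁻¹ * a) ^ 3 = 1
  ija : (i * (c * i * c⁻¹) * a) ^ 5 = 1
  t : b * b' ^ 3 * b ^ 3 * b' = u
  tb : u * b * u⁻¹ = b⁻¹
  tb' : u * b' * u⁻¹ = b'⁻¹
  ta : u * a = a * u
  bb' : (b * b') ^ 3 = 1
  bb'2 : (b * b' ^ 2) ^ 2 = 1
  ab'15 : (a * b') ^ 15 = 1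
  i1 : i ≠ 1
  b1 : b ≠ 1
  ab' : a * b' ≠ b' * a

/-- a homomorphism with kernel of order two and the central elements -/
structure Ext {H K : Type*} [Group H] [Group K] (ψ : H →* K) (X Z : H) : Prop where
  zc : ∀ h, h * Z = Z * h
  z2 : Z * Z = 1
  z1 : Z ≠ 1
  ker : ∀ h, ψ h = 1 → h = 1 ∨ h = Z
  ψz : ψ Z = 1
  xc : ∀ h, h * X = X * h
  x5 : X ^ 5 = 1

section

variable {H K : Type*} [Group H] [Group K] {ψ : H →* K} {X Z : H}

theorem Ext.eq_or (E : Ext ψ X Z) {h k : H} (hk : ψ h = ψ k) : h = k ∨ h = k * Z := by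
  have h1 : ψ (k⁻¹ * h) = 1 := by rw [map_mul, map_inv, hk, inv_mul_cancel]
  rcases E.ker _ h1 with h2 | h2
  · left; exact (inv_mul_eq_one.1 h2).symm
  · right; exact inv_mul_eq_iff_eq_mul.1 h2

theorem Ext.mul_pow (E : Ext ψ X Z) (k : H) {n : ℕ} (hn : Odd n) : (k * Z) ^ n = k ^ n * Z := by
  have h1 : Commute k Z := E.zc k
  obtain ⟨m, rfl⟩ := hn
  rw [h1.mul_pow, pow_succ Z, pow_mul Z, pow_two Z, E.z2, one_pow, one_mul]

theorem Ext.eq_of_odd (E : Ext ψ X Z) {h k : H} (hk : ψ h = ψ k) {n : ℕ} (hn : Odd n) (h1 : h ^ n = 1) (k1 : k ^ n = 1) :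
    h = k := by
  rcases E.eq_or hk with h2 | h2
  · exact h2
  · exfalso
    apply E.z1
    rw [h2, E.mul_pow k hn, k1, one_mul] at h1
    exact h1

theorem Ext.exists_odd (E : Ext ψ X Z) (y : H) {n : ℕ} (hn : Odd n) (hy : ψ y ^ n = 1) :
    ∃ y', ψ y' = ψ y ∧ y' ^ n = 1 := by
  rw [← map_pow] at hy
  rcases E.ker _ hy with h1 | h1
  · exact ⟨y, rfl, h1⟩
  · refine ⟨y * Z, by rw [map_mul, E.ψz, mul_one], ?_⟩
    rw [E.mul_pow y hn, h1, E.z2]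

/-- conjugation relations between elements of odd order -/
theorem Ext.conj (E : Ext ψ X Z) {g h k : H} (hr : ψ g * ψ h * (ψ g)⁻¹ = ψ k) {n : ℕ} (hn : Odd n) (h1 : h ^ n = 1)
    (k1 : k ^ n = 1) : g * h * g⁻¹ = k := by
  refine E.eq_of_odd ?_ hn ?_ k1
  · rw [map_mul, map_mul, map_inv, hr]
  · rw [conj_pow, h1, mul_one, mul_inv_cancel]

theorem Ext.comm (E : Ext ψ X Z) {g h : H} (hr : ψ g * ψ h = ψ h * ψ g) {n : ℕ} (hn : Odd n) (h1 : h ^ n = 1) :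
    g * h = h * g := by
  have h2 := E.conj (g := g) (h := h) (k := h) (by rw [hr, mul_inv_cancel_right]) hn h1 h1
  exact mul_inv_eq_iff_eq_mul.1 h2

theorem Ext.inv (E : Ext ψ X Z) {g h : H} (hr : ψ g * ψ h * (ψ g)⁻¹ = (ψ h)⁻¹) {n : ℕ} (hn : Odd n) (h1 : h ^ n = 1) :
    g * h * g⁻¹ = h⁻¹ :=
  E.conj (by rw [hr, map_inv]) hn h1 (by rw [inv_pow, h1, inv_one])

/-- **The relations lift.** -/
theorem exists_lifts (E : Ext ψ X Z) {u : H} (hu : u * u = 1) {i₀ c₀ b₀ b₀' a₀ : H}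
    (R : RelK (ψ i₀) (ψ c₀) (ψ b₀) (ψ b₀') (ψ a₀) (ψ u)) :
    ∃ i c b b' a : H, c ^ 3 = 1 ∧ b ^ 5 = 1 ∧ b' ^ 5 = 1 ∧ a ^ 5 = 1 ∧ (i * i = 1 ∨ i * i = Z) ∧ i ≠ 1 ∧ i ≠ Z ∧
      i * b = b * i ∧ i * b' = b' * i ∧ c * b = b * c ∧ c * b' = b' * c ∧
      c * (c * i * c⁻¹) * c⁻¹ = i * (c * i * c⁻¹) ∧ a * b = b * a ∧ i * a * i⁻¹ = a⁻¹ ∧
      ((c * i * c⁻¹ * a) ^ 3 = 1 ∨ (c * i * c⁻¹ * a) ^ 3 = Z) ∧
      ((i * (c * i * c⁻¹) * a) ^ 5 = 1 ∨ (i * (c * i * c⁻¹) * a) ^ 5 = Z) ∧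
      (b * b' ^ 3 * b ^ 3 * b') * (b * b' ^ 3 * b ^ 3 * b') = 1 ∧
      (b * b' ^ 3 * b ^ 3 * b') * b * (b * b' ^ 3 * b ^ 3 * b')⁻¹ = b⁻¹ ∧
      (b * b' ^ 3 * b ^ 3 * b') * b' * (b * b' ^ 3 * b ^ 3 * b')⁻¹ = b'⁻¹ ∧
      (b * b' ^ 3 * b ^ 3 * b') * a = a * (b * b' ^ 3 * b ^ 3 * b') ∧
      ((b * b') ^ 3 = 1 ∨ (b * b') ^ 3 = Z) ∧ ((b * b' ^ 2) ^ 2 = 1 ∨ (b * b' ^ 2) ^ 2 = Z) ∧
      ((a * b') ^ 15 = 1 ∨ (a * b') ^ 15 = Z) ∧ b ∉ zpowers X ∧ a * b' * a⁻¹ * b'⁻¹ ∉ zpowers X := by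
  have o3 : Odd 3 := by decide
  have o5 : Odd 5 := by decide
  obtain ⟨c, hc, c3⟩ := E.exists_odd c₀ o3 R.c3
  obtain ⟨b, hb, b5⟩ := E.exists_odd b₀ o5 R.b5
  obtain ⟨b', hb', b'5⟩ := E.exists_odd b₀' o5 R.b'5
  obtain ⟨a, ha, a5⟩ := E.exists_odd a₀ o5 R.a5
  -- the element `i`
  obtain ⟨i, hi, cj⟩ : ∃ i, ψ i = ψ i₀ ∧ c * (c * i * c⁻¹) * c⁻¹ = i * (c * i * c⁻¹) := by
    have h1 : ψ (c * (c * i₀ * c⁻¹) * c⁻¹) = ψ (i₀ * (c * i₀ * c⁻¹)) := by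
      simp only [map_mul, map_inv, hc]
      exact R.cj
    rcases E.eq_or h1 with h2 | h2
    · exact ⟨i₀, rfl, h2⟩
    · refine ⟨i₀ * Z, by rw [map_mul, E.ψz, mul_one], ?_⟩
      have hZc : c * (i₀ * Z) * c⁻¹ = c * i₀ * c⁻¹ * Z := by
        rw [← mul_assoc, mul_assoc _ Z, ← E.zc c⁻¹, ← mul_assoc]
      have hZc2 : c * (c * i₀ * c⁻¹ * Z) * c⁻¹ = c * (c * i₀ * c⁻¹) * c⁻¹ * Z := by
        rw [← mul_assoc c (c * i₀ * c⁻¹) Z, mul_assoc _ Z, ← E.zc c⁻¹, ← mul_assoc]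
      rw [hZc, hZc2, h2]
      calc i₀ * (c * i₀ * c⁻¹) * Z * Z = i₀ * (c * i₀ * c⁻¹) * (Z * Z) := by rw [mul_assoc]
        _ = (i₀ * ((c * i₀ * c⁻¹) * Z)) * Z := by simp only [mul_assoc]
        _ = (i₀ * (Z * (c * i₀ * c⁻¹))) * Z := by rw [E.zc (c * i₀ * c⁻¹)]
        _ = i₀ * Z * (c * i₀ * c⁻¹ * Z) := by simp only [mul_assoc]
  have t0 : ψ (b * b' ^ 3 * b ^ 3 * b') = ψ u := by
    simp only [map_mul, map_pow, hb, hb']
    exact R.t
  set t : H := b * b' ^ 3 * b ^ 3 * b' with ht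
  have t2 : t * t = 1 := by
    rcases E.eq_or t0 with h1 | h1
    · rw [h1, hu]
    · rw [h1]
      calc u * Z * (u * Z) = u * (Z * u) * Z := by simp only [mul_assoc]
        _ = u * (u * Z) * Z := by rw [E.zc u]
        _ = (u * u) * (Z * Z) := by simp only [mul_assoc]
        _ = 1 := by rw [hu, E.z2, one_mul]
  have tb : t * b * t⁻¹ = b⁻¹ := E.inv (by rw [t0, hb]; exact R.tb) o5 b5
  have tb' : t * b' * t⁻¹ = b'⁻¹ := E.inv (by rw [t0, hb']; exact R.tb') o5 b'5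
  have ta : t * a = a * t := E.comm (by rw [t0, ha]; exact R.ta) o5 a5
  have hpow : ∀ y ∈ zpowers X, y ^ 5 = 1 := by
    intro y hy
    obtain ⟨k, rfl⟩ := mem_zpowers_iff.1 hy
    rw [← zpow_natCast, ← zpow_mul, mul_comm, zpow_mul, zpow_natCast, E.x5, one_zpow]
  have hcen : ∀ y ∈ zpowers X, ∀ h, h * y = y * h := by
    intro y hy h
    obtain ⟨k, rfl⟩ := mem_zpowers_iff.1 hy
    exact ((show Commute h X from E.xc h).zpow_right k).eq
  have hinv : ∀ y ∈ zpowers X, y = y⁻¹ → y = 1 := by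
    intro y hy h1
    have h2 : y * y = 1 := by
      nth_rewrite 1 [h1]
      exact inv_mul_cancel y
    calc y = y ^ 5 * ((y * y) * (y * y))⁻¹ := by group
      _ = 1 := by rw [hpow y hy, h2]; group
  refine ⟨i, c, b, b', a, c3, b5, b'5, a5, ?_, ?_, ?_, ?_, ?_, ?_, ?_, cj, ?_, ?_, ?_, ?_, t2, tb, tb', ta, ?_, ?_, ?_, ?_,
    ?_⟩
  · exact E.ker _ (by rw [map_mul, hi]; exact R.i2)
  · intro h1
    apply R.i1
    rw [← hi, h1, map_one]
  · intro h1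
    apply R.i1
    rw [← hi, h1, E.ψz]
  · exact E.comm (by rw [hi, hb]; exact R.ib) o5 b5
  · exact E.comm (by rw [hi, hb']; exact R.ib') o5 b'5
  · exact E.comm (by rw [hc, hb]; exact R.cb) o5 b5
  · exact E.comm (by rw [hc, hb']; exact R.cb') o5 b'5
  · exact E.comm (by rw [ha, hb]; exact R.ab) o5 b5
  · exact E.inv (by rw [hi, ha]; exact R.ia) o5 a5
  · exact E.ker _ (by simp only [map_mul, map_inv, map_pow, hi, hc, ha]; exact R.ja)
  · exact E.ker _ (by simp only [map_mul, map_inv, map_pow, hi, hc, ha]; exact R.ija)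
  · exact E.ker _ (by simp only [map_mul, map_pow, hb, hb']; exact R.bb')
  · exact E.ker _ (by simp only [map_mul, map_pow, hb, hb']; exact R.bb'2)
  · exact E.ker _ (by simp only [map_mul, map_pow, ha, hb']; exact R.ab'15)
  · intro h1
    apply R.b1
    have h2 : b = b⁻¹ := by
      rw [← tb, hcen b h1 t, mul_inv_cancel_right]
    rw [← hb, hinv b h1 h2, map_one]
  · intro h1
    apply R.ab'
    rw [← ha, ← hb', ← map_mul, ← map_mul]
    congr 1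
    set y := a * b' * a⁻¹ * b'⁻¹ with hy
    have e1 : a * b' * a⁻¹ = y * b' := by rw [hy]; group
    -- conjugation by `t`
    have e2 : a * b'⁻¹ * a⁻¹ = y * b'⁻¹ := by
      have e3 : t * (a * b' * a⁻¹) * t⁻¹ = a * b'⁻¹ * a⁻¹ := by
        have e5 : t * (a * b' * a⁻¹) * t⁻¹ = (t * a) * b' * (a⁻¹ * t⁻¹) := by group
        have e6 : a⁻¹ * t⁻¹ = t⁻¹ * a⁻¹ := by rw [← mul_inv_rev, ta, mul_inv_rev]
        rw [e5, ta, e6, ← tb']
        group
      rw [← e3, e1]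
      have e4 : t * (y * b') * t⁻¹ = y * (t * b' * t⁻¹) := by
        rw [← mul_assoc t y b', hcen y h1 t]
        group
      rw [e4, tb']
    have e7 : a * b'⁻¹ * a⁻¹ = b'⁻¹ * y⁻¹ := by
      have : a * b'⁻¹ * a⁻¹ = (a * b' * a⁻¹)⁻¹ := by group
      rw [this, e1, mul_inv_rev]
    have e8 : y = y⁻¹ := by
      rw [e2, ← hcen y h1] at e7
      exact mul_left_cancel e7
    have e9 := hinv y h1 e8
    rw [e9, one_mul] at e1
    exact mul_inv_eq_iff_eq_mul.1 e1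

end

/-- **`RelH`** from a homomorphism with kernel `⟨z⟩` of `C(x) ∩ C(z)`. -/
theorem nonempty_relH {G : Type} [Group G] (S : Sit G) {K : Type} [Group K]
    (ψ : ↥(centralizer {S.x} ⊓ centralizer {S.z}) →* K)
    (hk : ∀ h, ψ h = 1 ↔ (h : G) = 1 ∨ (h : G) = S.z)
    (hu : S.u ∈ centralizer {S.x} ⊓ centralizer {S.z}) {i₀ c₀ b₀ b₀' a₀ : ↥(centralizer {S.x} ⊓ centralizer {S.z})}
    (R : RelK (ψ i₀) (ψ c₀) (ψ b₀) (ψ b₀') (ψ a₀) (ψ ⟨S.u, hu⟩)) : Nonempty (RelH S) := by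
  have hx : S.x ∈ centralizer {S.x} ⊓ centralizer {S.z} :=
    mem_inf.2 ⟨mem_centralizer_singleton_iff.2 rfl, mem_centralizer_singleton_iff.2 S.xz⟩
  have hz : S.z ∈ centralizer {S.x} ⊓ centralizer {S.z} :=
    mem_inf.2 ⟨mem_centralizer_singleton_iff.2 S.xz.symm, mem_centralizer_singleton_iff.2 rfl⟩
  have cx : ∀ h : ↥(centralizer {S.x} ⊓ centralizer {S.z}), (h : G) * S.x = S.x * h := fun h =>
    mem_centralizer_singleton_iff.1 (mem_inf.1 h.2).1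
  have cz : ∀ h : ↥(centralizer {S.x} ⊓ centralizer {S.z}), (h : G) * S.z = S.z * h := fun h =>
    mem_centralizer_singleton_iff.1 (mem_inf.1 h.2).2
  have E : Ext ψ ⟨S.x, hx⟩ ⟨S.z, hz⟩ :=
    { zc := fun h => Subtype.ext (cz h)
      z2 := Subtype.ext S.z_sq
      z1 := fun h => S.z_ne (congrArg Subtype.val h)
      ker := by
        intro h h1
        rcases (hk h).1 h1 with h2 | h2
        · exact Or.inl (Subtype.ext h2)
        · exact Or.inr (Subtype.ext h2)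
      ψz := (hk _).2 (Or.inr rfl)
      xc := fun h => Subtype.ext (cx h)
      x5 := Subtype.ext (by
        show S.x ^ 5 = 1
        rw [← S.x_ord, pow_orderOf_eq_one]) }
  obtain ⟨i, c, b, b', a, c3, b5, b'5, a5, i2, i1, iz, ib, ib', cb, cb', cj, ab, ia, ja, ija, t2, tb, tb', ta, bb', bb'2,
    ab'15, b1, ab'⟩ := exists_lifts E (u := ⟨S.u, hu⟩) (Subtype.ext S.u_sq) R
  have hzp : ∀ y : ↥(centralizer {S.x} ⊓ centralizer {S.z}), (y : G) ∈ zpowers S.x →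
      y ∈ zpowers (⟨S.x, hx⟩ : ↥(centralizer {S.x} ⊓ centralizer {S.z})) := by
    intro y hy
    obtain ⟨k, hk⟩ := mem_zpowers_iff.1 hy
    exact mem_zpowers_iff.2 ⟨k, Subtype.ext hk⟩
  exact ⟨{
    i := i
    c := c
    b := b
    b' := b'
    a := a
    ix := cx i
    cx := cx c
    bx := cx b
    b'x := cx b'
    ax := cx a
    iz := cz i
    cz := cz c
    bz := cz b
    b'z := cz b'
    az := cz a
    c3 := congrArg Subtype.val c3
    b5 := congrArg Subtype.val b5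
    b'5 := congrArg Subtype.val b'5
    a5 := congrArg Subtype.val a5
    i2 := i2.imp (congrArg Subtype.val) (congrArg Subtype.val)
    i_ne := fun h => i1 (Subtype.ext h)
    i_nez := fun h => iz (Subtype.ext h)
    ib := congrArg Subtype.val ib
    ib' := congrArg Subtype.val ib'
    cb := congrArg Subtype.val cb
    cb' := congrArg Subtype.val cb'
    cj := congrArg Subtype.val cj
    ab := congrArg Subtype.val ab
    ia := congrArg Subtype.val ia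
    ja := ja.imp (congrArg Subtype.val) (congrArg Subtype.val)
    ija := ija.imp (congrArg Subtype.val) (congrArg Subtype.val)
    t2 := congrArg Subtype.val t2
    tb := congrArg Subtype.val tb
    tb' := congrArg Subtype.val tb'
    ta := congrArg Subtype.val ta
    bb' := bb'.imp (congrArg Subtype.val) (congrArg Subtype.val)
    bb'2 := bb'2.imp (congrArg Subtype.val) (congrArg Subtype.val)
    ab'15 := ab'15.imp (congrArg Subtype.val) (congrArg Subtype.val)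
    b_ne := fun h => b1 (hzp _ h)
    ab'_ne := fun h => ab' (hzp (a * b' * a⁻¹ * b'⁻¹) h) }⟩

end Cfsg.Agent.H961.M5.CAbs
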