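import Cfsg.Agent.MFive.JData
import Cfsg.Agent.H961.M5.CAbs

/-!
# The relations of `RelH` in `Co1` (helper961; task 2146 of helper777)

Words in the elements `MFive.JData.e`; kernel checks.
-/

set_option autoImplicit false
set_option maxRecDepth 100000

namespace Cfsg.Agent.H961.M5.CWord

open Cfsg Cfsg.Agent.MFive Cfsg.Agent.CoOneType.CoEval
open Cfsg.Spor (Co1)

/-- the image in `Co1` of a word -/
noncomputable def wd (w : List ℕ) : Co1 := (w.map fun i => pr (JData.e i)).prod

theorem wd_append (v w : List ℕ) : wd (v ++ w) = wd v * wd w := by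
  rw [wd, List.map_append, List.prod_append]
  rfl

theorem wd_nil : wd [] = 1 := rfl

theorem wd_single (i : ℕ) : wd [i] = QuotientGroup.mk (JData.e i) := by
  rw [wd, List.map_singleton, List.prod_singleton]
  rfl

theorem wd_eq {v w : List ℕ} (h : sameB JData.M v w = true) : wd v = wd w := eq_of_sameB JData.rep h

theorem wd_ne {w : List ℕ} (h : neB JData.M w = true) : wd w ≠ 1 := ne_one_of_neB JData.rep h

def wI : List ℕ := [8]
def wC : List ℕ := [2, 5, 9]
def wB : List ℕ := [8, 11, 9, 11, 4, 10, 11, 10, 11]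
def wA : List ℕ := [1, 3, 5, 10, 11, 11]
def wB' : List ℕ := [1, 7, 11, 7, 11, 7, 11, 9, 9, 11, 9]

/-- `w` commutes with the letter 0 modulo the centre -/
def sameB' (w : List ℕ) : Bool := sameB JData.M (w ++ [0]) ([0] ++ w)

/-- `c i c²` -/
def wJ : List ℕ := wC ++ wI ++ (wC ++ wC)

theorem k1 : sameB JData.M (wC ++ wC ++ wC) [] = true := by decide +kernel
theorem k2 : sameB JData.M (wB ++ wB ++ wB ++ wB ++ wB) [] = true := by decide +kernel
theorem k3 : sameB JData.M (wB' ++ wB' ++ wB' ++ wB' ++ wB') [] = true := by decide +kernel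
theorem k4 : sameB JData.M (wA ++ wA ++ wA ++ wA ++ wA) [] = true := by decide +kernel
theorem k5 : sameB JData.M (wI ++ wI) [] = true := by decide +kernel
theorem k6 : sameB JData.M (wI ++ wB) (wB ++ wI) = true := by decide +kernel
theorem k7 : sameB JData.M (wI ++ wB') (wB' ++ wI) = true := by decide +kernel
theorem k8 : sameB JData.M (wC ++ wB) (wB ++ wC) = true := by decide +kernel
theorem k9 : sameB JData.M (wC ++ wB') (wB' ++ wC) = true := by decide +kernel
theorem k10 : sameB JData.M (wC ++ wJ) (wI ++ wJ ++ wC) = true := by decide +kernel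
theorem k11 : sameB JData.M (wA ++ wB) (wB ++ wA) = true := by decide +kernel
theorem k12 : sameB JData.M (wA ++ wI ++ wA) wI = true := by decide +kernel
theorem k13 : sameB JData.M (wJ ++ wA ++ (wJ ++ wA) ++ (wJ ++ wA)) [] = true := by decide +kernel
theorem k14 : sameB JData.M (wI ++ wJ ++ wA ++ (wI ++ wJ ++ wA) ++ (wI ++ wJ ++ wA) ++ (wI ++ wJ ++ wA) ++
    (wI ++ wJ ++ wA)) [] = true := by decide +kernel
theorem k15 : sameB JData.M (wB ++ (wB' ++ wB' ++ wB') ++ (wB ++ wB ++ wB) ++ wB') [1] = true := by decide +kernel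
theorem k16 : sameB JData.M (wB ++ [1] ++ wB) [1] = true := by decide +kernel
theorem k17 : sameB JData.M (wB' ++ [1] ++ wB') [1] = true := by decide +kernel
theorem k18 : sameB JData.M ([1] ++ wA) (wA ++ [1]) = true := by decide +kernel
theorem k19 : sameB JData.M (wB ++ wB' ++ (wB ++ wB') ++ (wB ++ wB')) [] = true := by decide +kernel
theorem k20 : sameB JData.M (wB ++ (wB' ++ wB') ++ (wB ++ (wB' ++ wB'))) [] = true := by decide +kernel
theorem k21 : neB JData.M wI = true := by decide +kernel
theorem k22 : neB JData.M wB = true := by decide +kernel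
theorem k23 : neB JData.M (wA ++ wB' ++ (wA ++ wA ++ wA ++ wA) ++ (wB' ++ wB' ++ wB' ++ wB')) = true := by
  decide +kernel


/-- `(a b')⁵` -/
def w5 : List ℕ := wA ++ wB' ++ (wA ++ wB') ++ (wA ++ wB') ++ (wA ++ wB') ++ (wA ++ wB')

theorem k24 : sameB JData.M (w5 ++ w5 ++ w5) [] = true := by decide +kernel
theorem k25 : sameB JData.M (wA ++ [0]) ([0] ++ wA) = true := by decide +kernel
theorem k26 : sameB JData.M (wB ++ [0]) ([0] ++ wB) = true := by decide +kernel
theorem k27 : sameB JData.M (wB' ++ [0]) ([0] ++ wB') = true := by decide +kernel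
theorem k28 : sameB JData.M (wC ++ [0]) ([0] ++ wC) = true := by decide +kernel
theorem k29 : sameB JData.M (wI ++ [0]) ([0] ++ wI) = true := by decide +kernel

theorem p3 {G : Type*} [Group G] (g : G) : g ^ 3 = g * g * g := by rw [pow_succ, pow_two]

theorem p5 {G : Type*} [Group G] (g : G) : g ^ 5 = g * g * g * g * g := by rw [pow_succ, pow_succ, p3]

theorem inv_of {G : Type*} [Group G] {g h : G} (e : h * g * h = g) : g * h * g⁻¹ = h⁻¹ := by
  have h1 : g * h = h⁻¹ * g := by
    rw [eq_inv_mul_iff_mul_eq, ← mul_assoc]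
    exact e
  rw [h1, mul_inv_cancel_right]

/-- **The relations in `Co1`.** -/
theorem relK : CAbs.RelK (wd wI) (wd wC) (wd wB) (wd wB') (wd wA) (wd [1]) := by
  have e1 := wd_eq k1
  have e2 := wd_eq k2
  have e3 := wd_eq k3
  have e4 := wd_eq k4
  have e5 := wd_eq k5
  have e6 := wd_eq k6
  have e7 := wd_eq k7
  have e8 := wd_eq k8
  have e9 := wd_eq k9
  have e10 := wd_eq k10
  have e11 := wd_eq k11
  have e12 := wd_eq k12
  have e13 := wd_eq k13
  have e14 := wd_eq k14
  have e15 := wd_eq k15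
  have e16 := wd_eq k16
  have e17 := wd_eq k17
  have e18 := wd_eq k18
  have e19 := wd_eq k19
  have e20 := wd_eq k20
  have e21 := wd_ne k21
  have e22 := wd_ne k22
  have e23 := wd_ne k23
  have e24 := wd_eq k24
  have eJ : wd wJ = wd wC * wd wI * (wd wC * wd wC) := by rw [wJ, wd_append, wd_append, wd_append]
  have e55 : wd w5 = (wd wA * wd wB') ^ 5 := by
    rw [w5, p5]
    simp only [wd_append]
  simp only [wd_append, wd_nil] at e1 e2 e3 e4 e5 e6 e7 e8 e9 e10 e11 e12 e13 e14 e15 e16 e17 e18 e19 e20 e23 e24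
  have c2 : wd wC * wd wC = (wd wC)⁻¹ := by
    rw [eq_inv_iff_mul_eq_one]
    exact e1
  rw [c2] at eJ
  rw [eJ] at e10 e13 e14
  rw [e55] at e24
  have a5 : wd wA ^ 5 = 1 := by rw [p5]; exact e4
  have b'5 : wd wB' ^ 5 = 1 := by rw [p5]; exact e3
  refine
    { c3 := by rw [p3]; exact e1
      b5 := by rw [p5]; exact e2
      b'5 := b'5
      a5 := a5
      i2 := e5
      ib := e6
      ib' := e7
      cb := e8
      cb' := e9
      cj := by
        rw [mul_inv_eq_iff_eq_mul]
        exact e10
      ab := e11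
      ia := inv_of e12
      ja := by rw [p3]; exact e13
      ija := by rw [p5]; exact e14
      t := by rw [p3, p3]; exact e15
      tb := inv_of e16
      tb' := inv_of e17
      ta := e18
      bb' := by rw [p3]; exact e19
      bb'2 := by rw [pow_two, pow_two]; exact e20
      ab'15 := by
        rw [show 15 = 5 * 3 from rfl, pow_mul, p3]
        exact e24
      i1 := e21
      b1 := e22
      ab' := ?_ }
  intro h
  apply e23
  have hc : Commute (wd wA) (wd wB') := h
  have h4 : wd wA * wd wA * wd wA * wd wA = wd wA ^ 4 := by rw [pow_succ, p3]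
  have h4' : wd wB' * wd wB' * wd wB' * wd wB' = wd wB' ^ 4 := by rw [pow_succ, p3]
  rw [h4, h4']
  calc wd wA * wd wB' * wd wA ^ 4 * wd wB' ^ 4 = wd wA * (wd wB' * wd wA ^ 4) * wd wB' ^ 4 := by simp only [mul_assoc]
    _ = wd wA * (wd wA ^ 4 * wd wB') * wd wB' ^ 4 := by rw [(hc.symm.pow_right 4).eq]
    _ = (wd wA * wd wA ^ 4) * (wd wB' * wd wB' ^ 4) := by simp only [mul_assoc]
    _ = 1 := by rw [← pow_succ', ← pow_succ', a5, b'5, mul_one]

end Cfsg.Agent.H961.M5.CWord
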