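import Cfsg.Agent.MFive.KPair

/-!
# A second conjugate of `z` over the octad sign change (helper961; task 2144 of helper777)

`exists_second_ind` : the proof of `MFive.Tr.exists_second` (helper49) with the element of `Co0` in the conclusion;
`exists_pair` : `x` of order `p` over `s`, `u` over `mk (signCo0 c)`.
-/

set_option autoImplicit false

namespace Cfsg.Agent.H961.M5.Sec

open Cfsg Cfsg.Spor Cfsg.Agent.LeechMat.Core Cfsg.Agent.MonsterX.KSide Cfsg.Agent.MonsterX.KLift
open Cfsg.Agent.MonsterX.FrameKS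
open Cfsg.Agent.SporadicStructure.Co0Base (e8 e8_coe)
open Cfsg.Agent.SporadicA.Co0Mono (signCo0 signCo0_add signCo0_zero)
open Cfsg.Agent.SporadicA.Co1Simple (allOne allOne_smul allOne_mem_center)
open Cfsg.Agent.CoOneType.SignFacts (wt sup mem_sup notMem_sup)
open Cfsg.Agent.CoOneType.ClosingFacts (mk mk_eq mk_eq_one mk_mul mk_inv)
open Cfsg.Agent.MonsterU.Lam2 Cfsg.Agent.MonsterU.TwoCls Cfsg.Agent.MonsterU.TwoQ
open Cfsg.Agent.MonsterU.InvTwo (ι_inj)
open Cfsg.Agent.LThreeMBTr (Tens chr chr_conj chr_eq tr_sq chi chi_one chi_neg chi_sign Fpf nn n_comm mul_n_smul Acts_neg Acts_z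
  exists_data fix_iff notMem_Sh mk_pm Θ_inj exists_inv)
open Cfsg.Agent.MFive.Tr (tr_ne_zero)

variable {G V P W : Type*} [Group G] [AddCommGroup V] [Module ℚ V]
  [DistribMulAction G V] [SMulCommClass G ℚ V] [Group P] [AddCommGroup W] [Module ℚ W]
  {M : KS G V P W} {θ : leechLattice → P}

/-- **A second conjugate of `z` commuting with `x`**, inducing the octad sign change (the proof of `MFive.Tr.exists_second`). -/
theorem exists_second_ind (L : Lift M θ) (H : Tens M) {t : G}
    (two : ∀ u : G, u * u = 1 → u ≠ 1 → (∃ g, g * M.z * g⁻¹ = u) ∨ ∃ g, g * t * g⁻¹ = u) {n : ℕ} (hn : Odd n)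
    {x k : G} (hxK : x ∈ M.K) (h3 : x ^ n = 1) (hx : Fpf M x) (hk : k ∈ M.K) {c : golayCode}
    (hc : wt c = 8) (hkI : Ind M k (signCo0 c)) (hxk : x * k = k * x) :
    ∃ u ∈ M.K, u * u = 1 ∧ u ≠ 1 ∧ u ≠ M.z ∧ x * u = u * x ∧ Ind M u (signCo0 c) ∧
      ∃ g, g * M.z * g⁻¹ = u := by
  have hchi : chi (signCo0 c) = 8 := by
    rw [chi_sign, hc]; norm_num
  have hcc : signCo0 c * signCo0 c = 1 := by
    rw [← signCo0_add]
    have : c + c = 0 := by
      apply Subtype.ext
      funext i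
      show (c : GolayPt → ZMod 2) i + (c : GolayPt → ZMod 2) i = 0
      exact CharTwo.add_self_eq_zero _
    rw [this, signCo0_zero]
  obtain ⟨α, T, hD⟩ := exists_data hk hkI
  have hT0 := tr_ne_zero L H hn hxK h3 hx hD hxk
  -- `k² ∈ {1, z}`
  have h1 : Ind M (k * k) 1 := by rw [← hcc]; exact hkI.mul hkI
  obtain ⟨p, hp⟩ := M.mem_ι_of_trivial (k * k) (M.K.mul_mem hk hk) (fun v => by
    have := h1 v
    rwa [one_smul] at this)
  have h2 : p = 1 ∨ p = M.zc := by
    apply hx
    rw [← hp]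
    calc x * (k * k) = (x * k) * k := by group
      _ = (k * x) * k := by rw [hxk]
      _ = k * (x * k) := by group
      _ = k * (k * x) := by rw [hxk]
      _ = k * k * x := by group
  -- `k² = 1`
  have hkk : k * k = 1 := by
    rcases h2 with e | e
    · rw [hp, e, map_one]
    · exfalso
      have hkz : k * k = M.z := by rw [hp, e]; rfl
      have hT : ∀ f, T (T f) = -f := by
        intro f
        have h4 : k • k • M.Θ f (rat (e8 none)) = -M.Θ f (rat (e8 none)) := by
          rw [← mul_smul, hkz, M.z_Θ]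
        rw [hD.act_Θ, hD.act_Θ, ← mul_smul, hcc, one_smul] at h4
        have h5 : M.Θ (T (T f) + f) (rat (e8 none)) = 0 := by
          rw [map_add, LinearMap.add_apply, h4, neg_add_cancel]
        exact eq_neg_of_add_eq_zero_left (Θ_inj H h5)
      obtain ⟨hfin, J, _, _, b, hJ, hb⟩ := H
      obtain ⟨T', g1, g2, g3⟩ := exists_inv M hb hD
      have hT' : T' = -T := by
        have h5 : T * T = -1 := by
          ext f
          exact hT f
        calc T' = -(T' * (T * T)) := by rw [h5, mul_neg, mul_one, neg_neg]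
          _ = -((T' * T) * T) := by rw [mul_assoc]
          _ = -T := by rw [g1, one_mul]
      rw [hT', map_neg] at g3
      apply hT0
      linarith
  -- `k` and `k z` are not in `{1, z}`
  have hne : ∀ u : G, Ind M u (signCo0 c) → u ≠ 1 ∧ u ≠ M.z := by
    intro u hu
    have key : ¬ Ind M 1 (signCo0 c) := by
      intro h
      rcases mk_pm h with e | e
      · rw [e, chi_one] at hchi
        norm_num at hchi
      · have h5 := chi_neg 1
        rw [one_mul, ← e, hchi, chi_one] at h5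
        norm_num at h5
    constructor
    · rintro rfl
      exact key hu
    · rintro rfl
      apply key
      intro v
      rw [one_smul]
      have := hu v
      rwa [M.z_u] at this
  have hkzI : Ind M (k * M.z) (signCo0 c) := (Acts_z hD).act_u
  have hzK : M.z ∈ M.K := M.ι_mem _
  have hkz2 : k * M.z * (k * M.z) = 1 := by
    calc k * M.z * (k * M.z) = k * (M.z * k) * M.z := by group
      _ = k * (k * M.z) * M.z := by rw [M.z_comm_K k hk]
      _ = k * k * (M.z * M.z) := by group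
      _ = 1 := by rw [hkk, M.z_mul, one_mul]
  have hxkz : x * (k * M.z) = k * M.z * x := by
    calc x * (k * M.z) = (x * k) * M.z := by group
      _ = (k * x) * M.z := by rw [hxk]
      _ = k * (x * M.z) := by group
      _ = k * (M.z * x) := by rw [M.z_comm_K x hxK]
      _ = k * M.z * x := by group
  rcases two k hkk (hne k hkI).1 with h | ⟨g1, hg1⟩
  · exact ⟨k, hk, hkk, (hne k hkI).1, (hne k hkI).2, hxk, hkI, h⟩
  rcases two (k * M.z) hkz2 (hne _ hkzI).1 with h | ⟨g2, hg2⟩
  · exact ⟨k * M.z, M.K.mul_mem hk hzK, hkz2, (hne _ hkzI).1, (hne _ hkzI).2, hxkz, hkzI, h⟩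
  exfalso
  have h5 : chr V k = chr V (k * M.z) := by
    have e1 : chr V k = chr V t := by rw [← hg1, chr_conj]
    have e2 : chr V (k * M.z) = chr V t := by rw [← hg2, chr_conj]
    rw [e1, e2]
  classical
  obtain ⟨hfin, J, _, _, b, hJ, hb⟩ := H
  have hfinP : Finite P := Nat.finite_of_card_ne_zero (by rw [L.card]; norm_num)
  have : Fintype P := Fintype.ofFinite P
  rw [chr_eq M hb hD, chr_eq M hb (Acts_z hD), map_neg, hchi] at h5
  apply hT0
  linarith

end Cfsg.Agent.H961.M5.Sec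

namespace Cfsg.Agent.H961.M5.Sec

open Cfsg Cfsg.Agent.LeechMat.Core Cfsg.Agent.MonsterX.KSide Cfsg.Agent.MonsterX.KLift
open Cfsg.Agent.MonsterX.FrameKS Cfsg.Agent.MonsterU.InvTwo
open Cfsg.Agent.MonsterU.Lam2 Cfsg.Agent.MonsterU.TwoCls Cfsg.Agent.MonsterU.TwoQ
open Cfsg.Agent.MonsterU.Ch
open Cfsg.Agent.Co2Type.Quad
open Cfsg.Agent.SporadicA.Co0Mono Cfsg.Agent.SporadicA.Co1Simple
open Cfsg.Agent.CoOneType.ClosingFacts Cfsg.Agent.CoOneType.SignFacts
open Cfsg.Agent.LThreeMB (fr KChart.Cent KChart.pi KChart.chart KChart.eta_ι KChart.pi_eq)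
open Cfsg.Agent.LThreeMBTr (Fpf Tens)
open Cfsg.Agent.MFive Cfsg.Agent.MFive.KPair
open Cfsg.Spor (Co1)
open Subgroup (centralizer mem_centralizer_singleton_iff)

universe u

variable {p : ℕ} {G : Type u} {V P W : Type*} [Group G] [AddCommGroup V] [Module ℚ V]
  [DistribMulAction G V] [SMulCommClass G ℚ V] [Group P] [AddCommGroup W] [Module ℚ W]
  {M : KS G V P W} {θ : leechLattice → P}

/-- `x` over `s`, `u` over the octad sign change. -/
theorem exists_pair (hp : p.Prime) (ho : Odd p) (L : Lift M θ) (H : Tens M) (hc : KChart.Cent M) {t : G}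
    (two : ∀ u : G, u * u = 1 → u ≠ 1 → (∃ g, g * M.z * g⁻¹ = u) ∨ ∃ g, g * t * g⁻¹ = u)
    {s : Co1} {c : golayCode} (hs : orderOf s = p) (hfr : fr s = 1) (hw : wt c = 8)
    (hsc : s * QuotientGroup.mk (signCo0 c) = QuotientGroup.mk (signCo0 c) * s) :
    ∃ (x u : centralizer ({M.z} : Set G)) (g : G), orderOf x = p ∧ KChart.pi hc x = s ∧
      KChart.pi hc u = QuotientGroup.mk (signCo0 c) ∧ u * u = 1 ∧ (x : G) * u = u * x ∧ (u : G) ≠ M.z ∧
      g * M.z * g⁻¹ = u := by
  have h := KChart.chart L hc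
  obtain ⟨x, hx, rfl⟩ := exists_order h hp ho hs
  have hx3 : x ^ p = 1 := by rw [← hx, pow_orderOf_eq_one]
  obtain ⟨k, hkx, hk⟩ := exists_lift h hp ho hx3 hsc.symm
  have hkK : (k : G) ∈ M.K := hc k (mem_centralizer_singleton_iff.1 k.2)
  obtain ⟨A, hA⟩ := ind_exists hkK
  have hI : Ind M (k : G) (signCo0 c) := Ind_of_mk hA ((KChart.pi_eq hc hA).symm.trans hk)
  obtain ⟨u, huK, huu, hu1, huz, hxu, huI, g, hg⟩ := exists_second_ind L H two ho
    (hc x (mem_centralizer_singleton_iff.1 x.2))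
    (coe_pow hx3) (fpf ho L hc hx3 hfr) hkK hw hI (congrArg Subtype.val hkx).symm
  refine ⟨x, ⟨u, mem_centralizer_singleton_iff.2 (M.z_comm_K u huK)⟩, g, hx, rfl, ?_, Subtype.ext huu, hxu, huz, hg⟩
  exact KChart.pi_eq hc huI

end Cfsg.Agent.H961.M5.Sec
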