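import Cfsg.Agent.H961.M5.T3Abs
import Cfsg.Agent.H961.M5.Sec
import Cfsg.Agent.BpSpor.MFiveHA
import Cfsg.Agent.MFive.JTwo
import Cfsg.Agent.S0399
import Cfsg.Agent.H219.NoOneTwoFive

/-!
# The situation `Sit` for the model of the Monster (helper961; task 2144 of helper777)

`exists_sit_of` : from the Sylow 5-subgroup of `Co1` (`A1`) and the non-existence of a group of order 125 (`A2`);
`exists_sit_of_syl` : from `A1` (`A2` is helper219's).
-/

set_option autoImplicit false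
set_option maxRecDepth 100000

namespace Cfsg.Agent.H961.M5.T3

open Subgroup Cfsg
open Cfsg.Agent.MonsterU Cfsg.Agent.MFive
open Cfsg.Agent.LThreeMB (fr XX KChart.Cent KChart.pi KChart.chart)
open Cfsg.Agent.MonsterX Cfsg.Agent.MonsterX.InstData
open Cfsg.Agent.SporadicA.Co0Mono (signCo0)
open Cfsg.Agent.MFive.Row (hc)
open Cfsg.Spor (Co1)
open Cfsg.Agent.H777.M5

/-- no subgroup of order 125 commuting with the two elements -/
def NoOneTwoFive : Prop := ∀ R : Subgroup Co1,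
  (∀ y ∈ R, y * (QuotientGroup.mk (JData.e 0) : Co1) = QuotientGroup.mk (JData.e 0) * y) →
  (∀ y ∈ R, y * (QuotientGroup.mk (JData.e 1) : Co1) = QuotientGroup.mk (JData.e 1) * y) → Nat.card R ≠ 125

theorem hJ : ∀ s : Co1, orderOf s = 5 → fr s = 1 → Spor.IsoJ2 (XX s) := fun _ hs hf => JTwo.isoJ2 hs hf

theorem card_co1 : ¬ 5 ^ 5 ∣ Nat.card Co1 := by
  rw [Cfsg.Agent.S0399.result.2]
  norm_num

theorem card_model : ¬ 5 ^ 10 ∣ Nat.card ↥InstData.M.G := by
  rw [MonsterP.EquivOf.isM_model.2]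
  norm_num

/-- **The situation `Sit` for the Monster.** -/
theorem exists_sit_of (A1 : T3Abs.SylFive) (A2 : NoOneTwoFive) :
    ∃ (S : Sit ↥InstData.M.G) (hx : S.x ∈ Subgroup.centralizer ({KDone.K.z} : Set ↥InstData.M.G))
      (hu : S.u ∈ Subgroup.centralizer ({KDone.K.z} : Set ↥InstData.M.G)), S.z = KDone.K.z ∧
      KChart.pi hc ⟨S.x, hx⟩ = QuotientGroup.mk (JData.e 0) ∧ KChart.pi hc ⟨S.u, hu⟩ = QuotientGroup.mk (JData.e 1) := by
  have hfin := MFive.Row.finite_model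
  obtain ⟨x, u, g, hx, hxs, hus, -, hxu, hne, hg⟩ := Sec.exists_pair Nat.prime_five (by decide) KDone.lft
    LThreeMBTr.tens MFive.Row.hc MFive.Row.two JTwo.order_s1 Oct.fr_A Oct.wt_cw
    (congrArg (QuotientGroup.mk : Co0 → Co1) JTwo.eps_comm).symm
  rw [← JData.e_zero] at hxs
  rw [← JData.e_one] at hus
  have hfr : fr (KChart.pi MFive.Row.hc x) = 1 := by rw [hxs, JData.e_zero]; exact Oct.fr_A
  obtain ⟨S, h1, h2, h3⟩ := T3Abs.exists_sit_chart (KChart.chart KDone.lft MFive.Row.hc) BpSpor.M5.trNe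
    (CpAutBFive.Closed.coFive hJ) hJ CpAutBFive.Closed.hnEight card_model card_co1 A1 hx hfr hxu hne hg
    (by rw [hxs, hus]; exact A2)
  refine ⟨S, h1 ▸ x.2, h2 ▸ u.2, h3, ?_, ?_⟩
  · rw [← hxs]
    congr 1
    exact Subtype.ext h1
  · rw [← hus]
    congr 1
    exact Subtype.ext h2

/-- **The situation `Sit` for the Monster** from the Sylow 5-subgroup of `Co1`. -/
theorem exists_sit_of_syl (A1 : T3Abs.SylFive) :
    ∃ (S : Sit ↥InstData.M.G) (hx : S.x ∈ Subgroup.centralizer ({KDone.K.z} : Set ↥InstData.M.G))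
      (hu : S.u ∈ Subgroup.centralizer ({KDone.K.z} : Set ↥InstData.M.G)), S.z = KDone.K.z ∧
      KChart.pi hc ⟨S.x, hx⟩ = QuotientGroup.mk (JData.e 0) ∧ KChart.pi hc ⟨S.u, hu⟩ = QuotientGroup.mk (JData.e 1) :=
  exists_sit_of A1 fun R h0 h1 => Cfsg.Agent.H219.No125.no125 R h0 h1

end Cfsg.Agent.H961.M5.T3
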