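import Cfsg.Agent.H961.M5.C2
import Cfsg.Agent.H961.M5.T3
import Cfsg.Agent.H961.SevX
import Cfsg.Agent.H777.M5.MXDef
import Cfsg.Agent.H411.M5.Syl
import Cfsg.Agent.H415.M5.Syl
import Cfsg.Agent.H211.M5.Coord
import Cfsg.Agent.H255.M5D.Main
import Cfsg.Agent.H772.M5.FrA
import Cfsg.Agent.CoFive.Ranks

/-!
# `MX` for the Monster (helper961; task 2894 of helper777)

`exists_MX : Nonempty (MX ↥InstData.M.G)`.
-/

set_option autoImplicit false
set_option maxRecDepth 100000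

namespace Cfsg.Agent.H961.M5.MXB

open Subgroup Matrix
open Cfsg.Agent.H777.M5 Cfsg.Agent.H411.M5

/-! ### `t ≠ u z` -/

/-- `w(v) x^c` with `v 1 = v 4 = 0` -/
def FU : Subgroup PG where
  carrier := {y | y.i = 0 ∧ y.j = 0 ∧ y.v 1 = 0 ∧ y.v 4 = 0}
  one_mem' := ⟨rfl, rfl, rfl, rfl⟩
  mul_mem' := by
    rintro x y ⟨h1, h2, h3, h4⟩ ⟨k1, k2, k3, k4⟩
    refine ⟨by rw [PG.mul_i, h1, k1, add_zero], by rw [PG.mul_j, h2, k2, add_zero], ?_, ?_⟩
    · rw [PG.mul_v, Pi.add_apply, h1, h2, act_one, h3, k3, add_zero]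
    · rw [PG.mul_v, Pi.add_apply, h1, h2, act_one, h4, k4, add_zero]
  inv_mem' := by
    rintro x ⟨h1, h2, h3, h4⟩
    refine ⟨by rw [PG.inv_i, h1, neg_zero], by rw [PG.inv_j, h2, neg_zero], ?_, ?_⟩
    · rw [PG.inv_v, Pi.neg_apply, h1, h2, neg_zero, act_one, h3, neg_zero]
    · rw [PG.inv_v, Pi.neg_apply, h1, h2, neg_zero, act_one, h4, neg_zero]

theorem card_FU : 5 ^ 5 ≤ Nat.card ↥FU := by
  let f : ZMod 5 × ZMod 5 × ZMod 5 × ZMod 5 × ZMod 5 → ↥FU := fun p =>
    ⟨⟨![p.1, 0, p.2.1, p.2.2.1, 0, p.2.2.2.1], p.2.2.2.2, 0, 0⟩, rfl, rfl, rfl, rfl⟩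
  have hf : Function.Injective f := by
    rintro ⟨a0, a2, a3, a5, c⟩ ⟨b0, b2, b3, b5, d⟩ h
    have h1 := congrArg (fun y : ↥FU => (y : PG).v 0) h
    have h2 := congrArg (fun y : ↥FU => (y : PG).v 2) h
    have h3 := congrArg (fun y : ↥FU => (y : PG).v 3) h
    have h4 := congrArg (fun y : ↥FU => (y : PG).v 5) h
    have h5 := congrArg (fun y : ↥FU => (y : PG).c) h
    have h1 : a0 = b0 := h1
    have h2 : a2 = b2 := h2
    have h3 : a3 = b3 := h3
    have h4 : a5 = b5 := h4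
    have h5 : c = d := h5
    rw [h1, h2, h3, h4, h5]
  have h := Nat.card_le_card_of_injective f hf
  have e : Nat.card (ZMod 5 × ZMod 5 × ZMod 5 × ZMod 5 × ZMod 5) = 5 ^ 5 := by
    simp only [Nat.card_prod, Nat.card_zmod]
    norm_num
  rwa [e] at h

theorem tM_neg {v : V6} (h1 : v 1 = 0) (h4 : v 4 = 0) : tM *ᵥ (-v) = v := by
  have h5 : (4 : ZMod 5) = -1 := by decide
  funext k
  simp only [tM, mulVec, dotProduct, Fin.sum_univ_six, Pi.neg_apply, h1, h4]
  fin_cases k <;> simp [h1, h4, h5]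

theorem not_uz {G : Type} [Group G] [Finite G] (S : Sit G) (P : PData G) {t : G}
    (hx : ∀ g : G, g * P.x = P.x * g → g * S.x = S.x * g) (htw : ∀ v, t * P.w v * t⁻¹ = P.w (tM *ᵥ v))
    (hzw : ∀ v, S.z * P.w v * S.z⁻¹ = P.w (-v)) (hux : S.u * P.x = P.x * S.u) : t ≠ S.u * S.z := by
  intro ht
  have hu : S.u = t * S.z := by rw [ht, mul_assoc, S.z_sq, mul_one]
  have huw : ∀ v : V6, v 1 = 0 → v 4 = 0 → S.u * P.w v = P.w v * S.u := by
    intro v h1 h4
    have h2 : S.u * P.w v * S.u⁻¹ = P.w v := by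
      rw [hu]
      calc t * S.z * P.w v * (t * S.z)⁻¹ = t * (S.z * P.w v * S.z⁻¹) * t⁻¹ := by group
        _ = P.w v := by rw [hzw, htw, tM_neg h1 h4]
    exact mul_inv_eq_iff_eq_mul.1 h2
  have hp : IsPGroup 5 ↥(FU.map (PDat.hom P)) := (isPGroup_PG.to_subgroup FU).map _
  have h1 := S.S_max (FU.map (PDat.hom P)) hp ?_ ?_
  · rw [card_map_of_injective (PDat.hom_injective P)] at h1
    have h2 := card_FU.trans h1
    norm_num at h2
  · rintro _ ⟨y, ⟨h1, h2, -, -⟩, rfl⟩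
    rw [mem_centralizer_singleton_iff]
    apply hx
    rw [PDat.hom_apply, h1, h2, ZMod.val_zero, pow_zero, pow_zero, mul_one, mul_one, mul_assoc, ← pow_succ, pow_succ',
      ← mul_assoc, ← mul_assoc, P.x_w]
  · rintro _ ⟨y, ⟨h1, h2, h3, h4⟩, rfl⟩
    rw [mem_centralizer_singleton_iff, PDat.hom_apply, h1, h2, ZMod.val_zero, pow_zero, pow_zero, mul_one, mul_one,
      ← mul_assoc, huw _ h3 h4, mul_assoc, mul_assoc]
    congr 1
    exact ((show Commute S.u P.x from hux).pow_right _).eq.symm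

/-! ### the assembly, abstractly -/

theorem five_pow_inv {G : Type} [Group G] [Finite G] {x y : G} {k : ℕ} (hy : y = x ^ k) (y1 : y ≠ 1) (hx : orderOf x = 5) :
    ∃ m : ℕ, x = y ^ m := by
  have h1 : orderOf y = 5 := by
    have : Fact (Nat.Prime 5) := ⟨Nat.prime_five⟩
    refine orderOf_eq_prime ?_ y1
    rw [hy, ← pow_mul, mul_comm, pow_mul, ← hx, pow_orderOf_eq_one, one_pow]
  have h2 : zpowers y = zpowers x := by
    apply Subgroup.eq_of_le_of_card_ge
    · rw [zpowers_le, hy]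
      exact pow_mem (mem_zpowers x) k
    · rw [Nat.card_zpowers, Nat.card_zpowers, h1, hx]
  have h3 : x ∈ Submonoid.powers y := by
    rw [mem_powers_iff_mem_zpowers, h2]
    exact mem_zpowers x
  obtain ⟨m, hm⟩ := h3
  exact ⟨m, hm.symm⟩

/-- **`MX` from the data.** -/
theorem exists_MX_of {G : Type} [Group G] [Finite G] (S : Sit G) (W : WOut S)
    (hW : ∀ g, g * S.x = S.x * g → ∀ v, ∃ (v' : V6) (c : ℕ), g * W.w v * g⁻¹ = W.w v' * S.x ^ c) (R : RelH S)
    (ht : R.b * R.b' ^ 3 * R.b ^ 3 * R.b' = S.u ∨ R.b * R.b' ^ 3 * R.b ^ 3 * R.b' = S.u * S.z)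
    (ha : ∃ (g : G) (n : ℕ), g * R.a * g⁻¹ = S.x ^ n)
    (hbig : 5 ^ 9 ∣ Nat.card ↥(centralizer ({S.x} : Set G)) → ∀ y : G, orderOf y = 5 → y * S.u = S.u * y →
      5 ^ 7 ∣ Nat.card ↥(centralizer ({y} : Set G))) : Nonempty (MX G) := by
  obtain ⟨P, k, hPx, hPa, hPb, ⟨L, hL⟩, hb', i, j, -, -, ix, iz, jx, jz, hiw, hjw⟩ :=
    Cfsg.Agent.H255.M5D.exists_pdata2 S W R
  obtain ⟨m, hm⟩ := five_pow_inv hPx P.x_ne S.x_ord
  have toP : ∀ g : G, g * S.x = S.x * g → g * P.x = P.x * g := by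
    intro g hg
    rw [hPx]
    exact ((show Commute g S.x from hg).pow_right k).eq
  have toS : ∀ g : G, g * P.x = P.x * g → g * S.x = S.x * g := by
    intro g hg
    rw [hm]
    exact ((show Commute g P.x from hg).pow_right m).eq
  have hzw : ∀ v, S.z * P.w v * S.z⁻¹ = P.w (-v) := by
    intro v
    rw [hL, W.w_z, hL, map_neg]
  set t := R.b * R.b' ^ 3 * R.b ^ 3 * R.b' with htd
  have hbw : ∀ v, R.b * P.w v * R.b⁻¹ = P.w (bM *ᵥ v) := by
    intro v
    rw [← hPb]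
    exact P.b_w v
  have htw : ∀ v, t * P.w v * t⁻¹ = P.w (tM *ᵥ v) := by
    intro v
    have h1 : t * P.w v = P.w (tM *ᵥ v) * t := by
      have e1 : R.b' * P.w v = P.w (bpM *ᵥ v) * R.b' := by rw [← hb' v, inv_mul_cancel_right]
      have e2 : ∀ v, R.b * P.w v = P.w (bM *ᵥ v) * R.b := fun v => by rw [← hbw v, inv_mul_cancel_right]
      rw [htd, tM_eq]
      calc R.b * R.b' ^ 3 * R.b ^ 3 * R.b' * P.w v = R.b * (R.b' ^ 3 * (R.b ^ 3 * (R.b' * P.w v))) := by
            simp only [mul_assoc]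
        _ = R.b * (R.b' ^ 3 * ((R.b ^ 3 * P.w (bpM *ᵥ v)) * R.b')) := by rw [e1]; simp only [mul_assoc]
        _ = R.b * ((R.b' ^ 3 * P.w (bM ^ 3 *ᵥ (bpM *ᵥ v))) * (R.b ^ 3 * R.b')) := by
            rw [conj_pow_of hbw]; simp only [mul_assoc]
        _ = (R.b * P.w (bpM ^ 3 *ᵥ (bM ^ 3 *ᵥ (bpM *ᵥ v)))) * (R.b' ^ 3 * (R.b ^ 3 * R.b')) := by
            rw [conj_pow_of hb']; simp only [mul_assoc]
        _ = P.w ((bM * bpM ^ 3 * bM ^ 3 * bpM) *ᵥ v) * (R.b * R.b' ^ 3 * R.b ^ 3 * R.b') := by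
            rw [e2]; simp only [mulVec_mulVec, mul_assoc]
    rw [h1, mul_inv_cancel_right]
  have htu : t = S.u := ht.resolve_right (not_uz S P toS htw hzw (toP _ S.xu.symm))
  have h9 : 5 ^ 9 ∣ Nat.card ↥(centralizer ({S.x} : Set G)) := by
    have h1 : (PDat.hom P).range ≤ centralizer ({S.x} : Set G) := by
      rintro _ ⟨y, rfl⟩
      rw [mem_centralizer_singleton_iff]
      apply toS
      rw [PDat.hom_apply]
      have c1 : Commute P.x (P.w y.v) := P.x_w _
      have c2 : Commute P.x P.a := P.x_a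
      have c3 : Commute P.x P.b := P.x_b
      exact (((c1.mul_right (Commute.pow_right (Commute.refl _) _)).mul_right ((c2.pow_right _).mul_right
        (c3.pow_right _))).eq).symm
    rw [← PDat.card_range P]
    exact card_dvd_of_le h1
  have ctx : t * S.x = S.x * t := by rw [htu]; exact S.xu.symm
  exact ⟨{ P with
    z := S.z
    i := i
    j := j
    b' := R.b'
    t := t
    zx := toP _ S.xz.symm
    ix := toP _ ix
    jx := toP _ jx
    b'x := toP _ R.b'x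
    tx := toP _ ctx
    za := by rw [hPa]; exact R.az.symm
    zb := by rw [hPb]; exact R.bz.symm
    zi := iz.symm
    zj := jz.symm
    zb' := R.b'z.symm
    tz := by rw [htu]; exact S.uz
    ta := by rw [hPa]; exact R.ta
    tb := by rw [hPb]; exact R.tb
    z_w := hzw
    i_w := hiw
    j_w := hjw
    b'_w := hb'
    t_w := htw
    ker := by
      intro h hx hz hv
      have hx' := toS h hx
      have h1 : h ∈ zpowers S.x := by
        refine W.rho_ker h hx' hz ?_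
        intro v
        have h2 := hv (L.symm v)
        rw [hL, LinearEquiv.apply_symm_apply, W.rho_w h hx' hz] at h2
        exact Cfsg.Agent.H255.M5D.w_inj W h2
      have h2 : zpowers S.x ≤ zpowers P.x := by
        rw [zpowers_le, hm]
        exact pow_mem (mem_zpowers _) m
      exact h2 h1
    normal := by
      intro g hg v
      obtain ⟨v', c, h⟩ := hW g (toS g hg) (L v)
      refine ⟨L.symm v', m * c, ?_⟩
      rw [hL, h, hL, LinearEquiv.apply_symm_apply, pow_mul, ← hm]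
    a_conj := by
      obtain ⟨g, n, h⟩ := ha
      refine ⟨g, m * n, ?_⟩
      rw [hPa, h, pow_mul, ← hm]
    big := by
      intro y hy hyt
      refine hbig h9 y hy ?_
      rw [← htu]
      exact hyt
    not_dvd := S.not_dvd }⟩

/-! ### the Monster -/

section model

open Cfsg
open Cfsg.Agent.MonsterU Cfsg.Agent.MFive
open Cfsg.Agent.LThreeMB (fr XX KChart.Cent KChart.pi KChart.chart)
open Cfsg.Agent.MonsterX Cfsg.Agent.MonsterX.InstData
open Cfsg.Agent.SporadicA.Co0Mono (signCo0)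
open Cfsg.Agent.MFive.Row (hc)
open Cfsg.Spor (Co1)
open Cfsg.Agent.H961.M5.T3 (hJ card_model card_co1)
open Cfsg.Agent.H961.M5.CWord (wd wA)

/-- **The situation `Sit` for the Monster**: `u` is conjugate to `z`. -/
theorem exists_sit2 :
    ∃ (S : Sit ↥InstData.M.G) (hx : S.x ∈ Subgroup.centralizer ({KDone.K.z} : Set ↥InstData.M.G))
      (hu : S.u ∈ Subgroup.centralizer ({KDone.K.z} : Set ↥InstData.M.G)), S.z = KDone.K.z ∧
      KChart.pi hc ⟨S.x, hx⟩ = QuotientGroup.mk (JData.e 0) ∧ KChart.pi hc ⟨S.u, hu⟩ = QuotientGroup.mk (JData.e 1) ∧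
      ∃ g : ↥InstData.M.G, g * KDone.K.z * g⁻¹ = S.u := by
  have hfin := MFive.Row.finite_model
  obtain ⟨x, u, g, hx, hxs, hus, -, hxu, hne, hg⟩ := Sec.exists_pair Nat.prime_five (by decide) KDone.lft
    LThreeMBTr.tens MFive.Row.hc MFive.Row.two JTwo.order_s1 Oct.fr_A Oct.wt_cw
    (congrArg (QuotientGroup.mk : Co0 → Co1) JTwo.eps_comm).symm
  rw [← JData.e_zero] at hxs
  rw [← JData.e_one] at hus
  have hfr : fr (KChart.pi MFive.Row.hc x) = 1 := by rw [hxs, JData.e_zero]; exact Oct.fr_A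
  obtain ⟨S, h1, h2, h3⟩ := T3Abs.exists_sit_chart (KChart.chart KDone.lft MFive.Row.hc) BpSpor.M5.trNe
    (CpAutBFive.Closed.coFive hJ) hJ CpAutBFive.Closed.hnEight card_model card_co1
    (fun s hs hf => Cfsg.Agent.H415.M5.sylow_five hs hf) hx hfr hxu hne hg
    (by rw [hxs, hus]; exact fun R h0 h1 => Cfsg.Agent.H219.No125.no125 R h0 h1)
  refine ⟨S, h1 ▸ x.2, h2 ▸ u.2, h3, ?_, ?_, g, by rw [hg, h2]⟩
  · rw [← hxs]
    congr 1
    exact Subtype.ext h1
  · rw [← hus]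
    congr 1
    exact Subtype.ext h2

theorem card_HN {A : Type} [Group A] (h : Spor.IsoHN A) : Nat.card A = 273030912000000 := by
  obtain ⟨e⟩ := h
  exact (Nat.card_congr e.toEquiv).trans Cfsg.Agent.S1701.result.2

theorem card_cent_conj {G : Type} [Group G] {g x y : G} (h : g * x * g⁻¹ = y) :
    Nat.card ↥(centralizer ({x} : Set G)) = Nat.card ↥(centralizer ({y} : Set G)) := by
  obtain ⟨⟨e⟩, -⟩ := Cfsg.Agent.LThreeMB.exists_XX_equiv h
  exact Nat.card_congr e.toEquiv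

/-- **`MX` for the Monster.** -/
theorem exists_MX : Nonempty (MX ↥InstData.M.G) := by
  have hfin := MFive.Row.finite_model
  have h5 : Fact (Nat.Prime 5) := ⟨Nat.prime_five⟩
  have hp : Nat.Prime 5 := Nat.prime_five
  have ho : Odd 5 := by decide
  obtain ⟨S, hx, hu, hz, h0, h1, g₀, hg₀⟩ := exists_sit2
  obtain ⟨W, hW⟩ := Cfsg.Agent.H211.M5.exists_wout2 S
  obtain ⟨R, ⟨haz, hpa⟩, ht⟩ := C2.exists_rel2 S hx hu hz h0 h1
  have hch := KChart.chart KDone.lft hc
  have hx5 : (⟨S.x, hx⟩ : centralizer ({KDone.K.z} : Set ↥InstData.M.G)) ^ 5 = 1 := by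
    apply Subtype.ext
    show S.x ^ 5 = 1
    rw [← S.x_ord, pow_orderOf_eq_one]
  have hxo : orderOf (⟨S.x, hx⟩ : centralizer ({KDone.K.z} : Set ↥InstData.M.G)) = 5 := by
    rw [Subgroup.orderOf_mk, S.x_ord]
  have hpx : orderOf (KChart.pi hc ⟨S.x, hx⟩) = 5 := orderOf_pi hch hp ho hxo
  have hfx : fr (KChart.pi hc ⟨S.x, hx⟩) = 1 := by rw [h0, JData.e_zero]; exact Oct.fr_A
  -- the elements of order 5 and fixed rank 0
  have key : ∀ y : centralizer ({KDone.K.z} : Set ↥InstData.M.G), y ^ 5 = 1 → orderOf (KChart.pi hc y) = 5 →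
      fr (KChart.pi hc y) = 1 → ∃ g : ↥InstData.M.G, g * (y : ↥InstData.M.G) * g⁻¹ = S.x := by
    intro y hy hyo hyf
    obtain ⟨s, hs⟩ := isConj_iff.1 (CoFive.Ranks.isConj_of_fr hyo hpx (hyf.trans hfx.symm))
    obtain ⟨c, hc⟩ := exists_conj_of_conj hch hp ho hy hx5 hs
    exact ⟨c, congrArg Subtype.val hc⟩
  refine exists_MX_of S W hW R ht ?_ ?_
  · obtain ⟨g, hg⟩ := key ⟨R.a, haz⟩ (Subtype.ext R.a5) (by rw [hpa]; exact Cfsg.Agent.H772.M5.FrA.orderOf_wd)
      (by rw [hpa]; exact Cfsg.Agent.H772.M5.FrA.fr_wd)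
    exact ⟨g, 1, by rw [pow_one]; exact hg⟩
  · intro h9 y hy hyu
    rcases MFive.Row.cases_model (CpAutBFive.Closed.coFive hJ) CpAutBFive.Closed.hnEight hy
      ⟨g₀, by rw [hg₀]; exact hyu.symm⟩ with h | ⟨x₀, k, i, hx₀, hf₀, hk⟩
    · rw [Cfsg.Agent.H961.SevX.card_cent, card_HN h, hy]
      norm_num
    · have hi : (x₀ : ↥InstData.M.G) ^ i ≠ 1 := by
        intro h
        rw [h] at hk
        have h2 : y = 1 := by
          calc y = k⁻¹ * (k * y * k⁻¹) * k := by group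
            _ = 1 := by rw [hk]; group
        rw [h2, orderOf_one] at hy
        norm_num at hy
      obtain ⟨m, hm⟩ := five_pow_inv (x := (x₀ : ↥InstData.M.G)) rfl hi (by rw [Subgroup.orderOf_coe, hx₀])
      obtain ⟨g, hg⟩ := key x₀ (by rw [← hx₀, pow_orderOf_eq_one]) (orderOf_pi hch hp ho hx₀) hf₀
      have e1 : centralizer ({(x₀ : ↥InstData.M.G) ^ i} : Set ↥InstData.M.G) =
          centralizer ({(x₀ : ↥InstData.M.G)} : Set ↥InstData.M.G) := by
        apply le_antisymm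
        · intro c hc
          rw [mem_centralizer_singleton_iff] at hc ⊢
          rw [hm]
          exact ((show Commute c ((x₀ : ↥InstData.M.G) ^ i) from hc).pow_right m).eq
        · intro c hc
          rw [mem_centralizer_singleton_iff] at hc ⊢
          exact ((show Commute c (x₀ : ↥InstData.M.G) from hc).pow_right i).eq
      rw [card_cent_conj hk, e1, card_cent_conj hg]
      exact (pow_dvd_pow 5 (by norm_num)).trans h9

end model

end Cfsg.Agent.H961.M5.MXB
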