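import Cfsg.Agent.BpSpor.MFiveTop
import Cfsg.Agent.MFive.Row
import Cfsg.Agent.MFive.JTwo
import Cfsg.Agent.H961.M5.CAbs
import Cfsg.Agent.H961.M5.CWord

/-!
# `RelH` for the Monster (helper961; task 2146 of helper777)
-/

set_option autoImplicit false
set_option maxRecDepth 100000

namespace Cfsg.Agent.H961.M5.C

open Subgroup Cfsg
open Cfsg.Agent.MonsterU Cfsg.Agent.MFive
open Cfsg.Agent.LThreeMB (fr XX KChart.Cent KChart.pi KChart.chart)
open Cfsg.Agent.MonsterU.Ch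
open Cfsg.Agent.MonsterU.Lam2 (L2)
open Cfsg.Agent.MonsterX Cfsg.Agent.MonsterX.InstData
open Cfsg.Agent.MFive.Row (hc)
open Cfsg.Spor (Co1)
open Cfsg.Agent.H777.M5
open Cfsg.Agent.H961.M5.CWord

/-- **`RelH` for a group with a chart.** -/
theorem exists_rel_chart {G : Type} [Group G] {Q : Subgroup G} {z : G} {eta : G → L2}
    {pi : Subgroup.centralizer ({z} : Set G) →* Co1} (h : Chart Q z eta pi) (S : Sit G)
    (hx : S.x ∈ centralizer ({z} : Set G)) (hu : S.u ∈ centralizer ({z} : Set G)) (hz : S.z = z)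
    (h0 : pi ⟨S.x, hx⟩ = QuotientGroup.mk (JData.e 0)) (h1 : pi ⟨S.u, hu⟩ = QuotientGroup.mk (JData.e 1)) :
    Nonempty (RelH S) := by
  have hp : Nat.Prime 5 := Nat.prime_five
  have ho : Odd 5 := by decide
  subst hz
  have hx5 : (⟨S.x, hx⟩ : centralizer ({S.z} : Set G)) ^ 5 = 1 := by
    apply Subtype.ext
    show S.x ^ 5 = 1
    rw [← S.x_ord, pow_orderOf_eq_one]
  have hfr : fr (pi ⟨S.x, hx⟩) = 1 := by rw [h0, JData.e_zero]; exact Oct.fr_A
  let ψ : ↥(centralizer {S.x} ⊓ centralizer {S.z}) →* Co1 := pi.comp (Subgroup.inclusion inf_le_right)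
  have hψ : ∀ c : ↥(centralizer {S.x} ⊓ centralizer {S.z}), ψ c = 1 ↔ (c : G) = 1 ∨ (c : G) = S.z := by
    intro c
    have h2 : ψ c = 1 ↔ (c : G) ∈ Q := h.pi_eq_one _
    rw [h2]
    constructor
    · intro h3
      exact CpAutBFive.eq_of_fr h ho hx5 hfr h3 (mem_centralizer_singleton_iff.1 (mem_inf.1 c.2).1)
    · rintro (h3 | h3)
      · rw [h3]; exact Q.one_mem
      · rw [h3]; exact h.large.z_mem
  have hlift : ∀ w : List ℕ, sameB' w = true → ∃ c : ↥(centralizer {S.x} ⊓ centralizer {S.z}), ψ c = wd w := by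
    intro w hw
    have h2 : wd w * pi ⟨S.x, hx⟩ = pi ⟨S.x, hx⟩ * wd w := by
      have h3 := wd_eq hw
      rw [wd_append, wd_append, wd_single, ← h0] at h3
      exact h3
    obtain ⟨c, hcx, hcw⟩ := exists_lift h hp ho hx5 h2
    exact ⟨⟨c, mem_inf.2 ⟨mem_centralizer_singleton_iff.2 (congrArg Subtype.val hcx), c.2⟩⟩, hcw⟩
  obtain ⟨i, hi⟩ := hlift wI k29
  obtain ⟨c, hc⟩ := hlift wC k28
  obtain ⟨b, hb⟩ := hlift wB k26
  obtain ⟨b', hb'⟩ := hlift wB' k27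
  obtain ⟨a, ha⟩ := hlift wA k25
  have huH : S.u ∈ centralizer {S.x} ⊓ centralizer {S.z} :=
    mem_inf.2 ⟨mem_centralizer_singleton_iff.2 S.xu.symm, hu⟩
  have hψu : ψ ⟨S.u, huH⟩ = wd [1] := by rw [wd_single, ← h1]; rfl
  refine CAbs.nonempty_relH S ψ hψ huH (i₀ := i) (c₀ := c) (b₀ := b) (b₀' := b') (a₀ := a) ?_
  rw [hi, hc, hb, hb', ha, hψu]
  exact relK

/-- **`RelH` for the Monster.** -/
theorem exists_rel (S : Sit ↥InstData.M.G) (hx : S.x ∈ Subgroup.centralizer ({KDone.K.z} : Set ↥InstData.M.G))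
    (hu : S.u ∈ Subgroup.centralizer ({KDone.K.z} : Set ↥InstData.M.G)) (hz : S.z = KDone.K.z)
    (h0 : KChart.pi hc ⟨S.x, hx⟩ = QuotientGroup.mk (JData.e 0))
    (h1 : KChart.pi hc ⟨S.u, hu⟩ = QuotientGroup.mk (JData.e 1)) : Nonempty (RelH S) :=
  exists_rel_chart (KChart.chart KDone.lft hc) S hx hu hz h0 h1

end Cfsg.Agent.H961.M5.C
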