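import Cfsg.Agent.H961.M5.C

/-!
# `RelH` for the Monster, with the images of `a` and `t` (helper961; task 2894 of helper777)
-/

set_option autoImplicit false
set_option maxRecDepth 100000

namespace Cfsg.Agent.H961.M5.C2

open Subgroup
open Cfsg.Agent.H777.M5
open Cfsg.Agent.H961.M5.CAbs

section

variable {H K : Type*} [Group H] [Group K] {ψ : H →* K} {X Z : H}

/-- **The relations lift.** -/
theorem exists_lifts2 (E : Ext ψ X Z) {u : H} (hu : u * u = 1) {i₀ c₀ b₀ b₀' a₀ : H}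
    (R : RelK (ψ i₀) (ψ c₀) (ψ b₀) (ψ b₀') (ψ a₀) (ψ u)) :
    ∃ i c b b' a : H, c ^ 3 = 1 ∧ b ^ 5 = 1 ∧ b' ^ 5 = 1 ∧ a ^ 5 = 1 ∧ (i * i = 1 ∨ i * i = Z) ∧ i ≠ 1 ∧ i ≠ Z ∧
      i * b = b * i ∧ i * b' = b' * i ∧ c * b = b * c ∧ c * b' = b' * c ∧
      c * (c * i * c⁻¹) * c⁻¹ = i * (c * i * c⁻¹) ∧ a * b = b * a ∧ i * a * i⁻¹ = a⁻¹ ∧
      ((c * i * c⁻¹ * a) ^ 3 = 1 ∨ (c * i * c⁻¹ * a) ^ 3 = Z) ∧
      ((i * (c * i * c⁻¹) * a) ^ 5 = 1 ∨ (i * (c * i * c⁻¹) * a) ^ 5 = Z) ∧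
      (b * b' ^ 3 * b ^ 3 * b') * (b * b' ^ 3 * b ^ 3 * b') = 1 ∧
      (b * b' ^ 3 * b ^ 3 * b') * b * (b * b' ^ 3 * b ^ 3 * b')⁻¹ = b⁻¹ ∧
      (b * b' ^ 3 * b ^ 3 * b') * b' * (b * b' ^ 3 * b ^ 3 * b')⁻¹ = b'⁻¹ ∧
      (b * b' ^ 3 * b ^ 3 * b') * a = a * (b * b' ^ 3 * b ^ 3 * b') ∧
      ((b * b') ^ 3 = 1 ∨ (b * b') ^ 3 = Z) ∧ ((b * b' ^ 2) ^ 2 = 1 ∨ (b * b' ^ 2) ^ 2 = Z) ∧
      ((a * b') ^ 15 = 1 ∨ (a * b') ^ 15 = Z) ∧ b ∉ zpowers X ∧ a * b' * a⁻¹ * b'⁻¹ ∉ zpowers X ∧ ψ a = ψ a₀ ∧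
      ψ (b * b' ^ 3 * b ^ 3 * b') = ψ u := by
  have o3 : Odd 3 := by decide
  have o5 : Odd 5 := by decide
  obtain ⟨c, hc, c3⟩ := E.exists_odd c₀ o3 R.c3
  obtain ⟨b, hb, b5⟩ := E.exists_odd b₀ o5 R.b5
  obtain ⟨b', hb', b'5⟩ := E.exists_odd b₀' o5 R.b'5
  obtain ⟨a, ha, a5⟩ := E.exists_odd a₀ o5 R.a5
  -- the element `i`
  obtain ⟨i, hi, cj⟩ : ∃ i, ψ i = ψ i₀ ∧ c * (c * i * c⁻¹) * c⁻¹ = i * (c * i * c⁻¹) := by
    have h1 : ψ (c * (c * i₀ * c⁻¹) * c⁻¹) = ψ (i₀ * (c * i₀ * c⁻¹)) := by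
      simp only [map_mul, map_inv, hc]
      exact R.cj
    rcases E.eq_or h1 with h2 | h2
    · exact ⟨i₀, rfl, h2⟩
    · refine ⟨i₀ * Z, by rw [map_mul, E.ψz, mul_one], ?_⟩
      have hZc : c * (i₀ * Z) * c⁻¹ = c * i₀ * c⁻¹ * Z := by
        rw [← mul_assoc, mul_assoc _ Z, ← E.zc c⁻¹, ← mul_assoc]
      have hZc2 : c * (c * i₀ * c⁻¹ * Z) * c⁻¹ = c * (c * i₀ * c⁻¹) * c⁻¹ * Z := by
        rw [← mul_assoc c (c * i₀ * c⁻¹) Z, mul_assoc _ Z, ← E.zc c⁻¹, ← mul_assoc]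
      rw [hZc, hZc2, h2]
      calc i₀ * (c * i₀ * c⁻¹) * Z * Z = i₀ * (c * i₀ * c⁻¹) * (Z * Z) := by rw [mul_assoc]
        _ = (i₀ * ((c * i₀ * c⁻¹) * Z)) * Z := by simp only [mul_assoc]
        _ = (i₀ * (Z * (c * i₀ * c⁻¹))) * Z := by rw [E.zc (c * i₀ * c⁻¹)]
        _ = i₀ * Z * (c * i₀ * c⁻¹ * Z) := by simp only [mul_assoc]
  have t0 : ψ (b * b' ^ 3 * b ^ 3 * b') = ψ u := by
    simp only [map_mul, map_pow, hb, hb']
    exact R.t
  set t : H := b * b' ^ 3 * b ^ 3 * b' with ht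
  have t2 : t * t = 1 := by
    rcases E.eq_or t0 with h1 | h1
    · rw [h1, hu]
    · rw [h1]
      calc u * Z * (u * Z) = u * (Z * u) * Z := by simp only [mul_assoc]
        _ = u * (u * Z) * Z := by rw [E.zc u]
        _ = (u * u) * (Z * Z) := by simp only [mul_assoc]
        _ = 1 := by rw [hu, E.z2, one_mul]
  have tb : t * b * t⁻¹ = b⁻¹ := E.inv (by rw [t0, hb]; exact R.tb) o5 b5
  have tb' : t * b' * t⁻¹ = b'⁻¹ := E.inv (by rw [t0, hb']; exact R.tb') o5 b'5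
  have ta : t * a = a * t := E.comm (by rw [t0, ha]; exact R.ta) o5 a5
  have hpow : ∀ y ∈ zpowers X, y ^ 5 = 1 := by
    intro y hy
    obtain ⟨k, rfl⟩ := mem_zpowers_iff.1 hy
    rw [← zpow_natCast, ← zpow_mul, mul_comm, zpow_mul, zpow_natCast, E.x5, one_zpow]
  have hcen : ∀ y ∈ zpowers X, ∀ h, h * y = y * h := by
    intro y hy h
    obtain ⟨k, rfl⟩ := mem_zpowers_iff.1 hy
    exact ((show Commute h X from E.xc h).zpow_right k).eq
  have hinv : ∀ y ∈ zpowers X, y = y⁻¹ → y = 1 := by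
    intro y hy h1
    have h2 : y * y = 1 := by
      nth_rewrite 1 [h1]
      exact inv_mul_cancel y
    calc y = y ^ 5 * ((y * y) * (y * y))⁻¹ := by group
      _ = 1 := by rw [hpow y hy, h2]; group
  refine ⟨i, c, b, b', a, c3, b5, b'5, a5, ?_, ?_, ?_, ?_, ?_, ?_, ?_, cj, ?_, ?_, ?_, ?_, t2, tb, tb', ta, ?_, ?_, ?_, ?_,
    ?_, ha, t0⟩
  · exact E.ker _ (by rw [map_mul, hi]; exact R.i2)
  · intro h1
    apply R.i1
    rw [← hi, h1, map_one]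
  · intro h1
    apply R.i1
    rw [← hi, h1, E.ψz]
  · exact E.comm (by rw [hi, hb]; exact R.ib) o5 b5
  · exact E.comm (by rw [hi, hb']; exact R.ib') o5 b'5
  · exact E.comm (by rw [hc, hb]; exact R.cb) o5 b5
  · exact E.comm (by rw [hc, hb']; exact R.cb') o5 b'5
  · exact E.comm (by rw [ha, hb]; exact R.ab) o5 b5
  · exact E.inv (by rw [hi, ha]; exact R.ia) o5 a5
  · exact E.ker _ (by simp only [map_mul, map_inv, map_pow, hi, hc, ha]; exact R.ja)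
  · exact E.ker _ (by simp only [map_mul, map_inv, map_pow, hi, hc, ha]; exact R.ija)
  · exact E.ker _ (by simp only [map_mul, map_pow, hb, hb']; exact R.bb')
  · exact E.ker _ (by simp only [map_mul, map_pow, hb, hb']; exact R.bb'2)
  · exact E.ker _ (by simp only [map_mul, map_pow, ha, hb']; exact R.ab'15)
  · intro h1
    apply R.b1
    have h2 : b = b⁻¹ := by
      rw [← tb, hcen b h1 t, mul_inv_cancel_right]
    rw [← hb, hinv b h1 h2, map_one]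
  · intro h1
    apply R.ab'
    rw [← ha, ← hb', ← map_mul, ← map_mul]
    congr 1
    set y := a * b' * a⁻¹ * b'⁻¹ with hy
    have e1 : a * b' * a⁻¹ = y * b' := by rw [hy]; group
    -- conjugation by `t`
    have e2 : a * b'⁻¹ * a⁻¹ = y * b'⁻¹ := by
      have e3 : t * (a * b' * a⁻¹) * t⁻¹ = a * b'⁻¹ * a⁻¹ := by
        have e5 : t * (a * b' * a⁻¹) * t⁻¹ = (t * a) * b' * (a⁻¹ * t⁻¹) := by group
        have e6 : a⁻¹ * t⁻¹ = t⁻¹ * a⁻¹ := by rw [← mul_inv_rev, ta, mul_inv_rev]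
        rw [e5, ta, e6, ← tb']
        group
      rw [← e3, e1]
      have e4 : t * (y * b') * t⁻¹ = y * (t * b' * t⁻¹) := by
        rw [← mul_assoc t y b', hcen y h1 t]
        group
      rw [e4, tb']
    have e7 : a * b'⁻¹ * a⁻¹ = b'⁻¹ * y⁻¹ := by
      have : a * b'⁻¹ * a⁻¹ = (a * b' * a⁻¹)⁻¹ := by group
      rw [this, e1, mul_inv_rev]
    have e8 : y = y⁻¹ := by
      rw [e2, ← hcen y h1] at e7
      exact mul_left_cancel e7
    have e9 := hinv y h1 e8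
    rw [e9, one_mul] at e1
    exact mul_inv_eq_iff_eq_mul.1 e1

end

/-- **`RelH`** from a homomorphism with kernel `⟨z⟩` of `C(x) ∩ C(z)`. -/
theorem exists_relH2 {G : Type} [Group G] (S : Sit G) {K : Type} [Group K]
    (ψ : ↥(centralizer {S.x} ⊓ centralizer {S.z}) →* K)
    (hk : ∀ h, ψ h = 1 ↔ (h : G) = 1 ∨ (h : G) = S.z)
    (hu : S.u ∈ centralizer {S.x} ⊓ centralizer {S.z}) {i₀ c₀ b₀ b₀' a₀ : ↥(centralizer {S.x} ⊓ centralizer {S.z})}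
    (R : RelK (ψ i₀) (ψ c₀) (ψ b₀) (ψ b₀') (ψ a₀) (ψ ⟨S.u, hu⟩)) :
    ∃ R : RelH S, (∃ ha : R.a ∈ centralizer {S.x} ⊓ centralizer {S.z}, ψ ⟨R.a, ha⟩ = ψ a₀) ∧
      (R.b * R.b' ^ 3 * R.b ^ 3 * R.b' = S.u ∨ R.b * R.b' ^ 3 * R.b ^ 3 * R.b' = S.u * S.z) := by
  have hx : S.x ∈ centralizer {S.x} ⊓ centralizer {S.z} :=
    mem_inf.2 ⟨mem_centralizer_singleton_iff.2 rfl, mem_centralizer_singleton_iff.2 S.xz⟩
  have hz : S.z ∈ centralizer {S.x} ⊓ centralizer {S.z} :=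
    mem_inf.2 ⟨mem_centralizer_singleton_iff.2 S.xz.symm, mem_centralizer_singleton_iff.2 rfl⟩
  have cx : ∀ h : ↥(centralizer {S.x} ⊓ centralizer {S.z}), (h : G) * S.x = S.x * h := fun h =>
    mem_centralizer_singleton_iff.1 (mem_inf.1 h.2).1
  have cz : ∀ h : ↥(centralizer {S.x} ⊓ centralizer {S.z}), (h : G) * S.z = S.z * h := fun h =>
    mem_centralizer_singleton_iff.1 (mem_inf.1 h.2).2
  have E : Ext ψ ⟨S.x, hx⟩ ⟨S.z, hz⟩ :=
    { zc := fun h => Subtype.ext (cz h)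
      z2 := Subtype.ext S.z_sq
      z1 := fun h => S.z_ne (congrArg Subtype.val h)
      ker := by
        intro h h1
        rcases (hk h).1 h1 with h2 | h2
        · exact Or.inl (Subtype.ext h2)
        · exact Or.inr (Subtype.ext h2)
      ψz := (hk _).2 (Or.inr rfl)
      xc := fun h => Subtype.ext (cx h)
      x5 := Subtype.ext (by
        show S.x ^ 5 = 1
        rw [← S.x_ord, pow_orderOf_eq_one]) }
  obtain ⟨i, c, b, b', a, c3, b5, b'5, a5, i2, i1, iz, ib, ib', cb, cb', cj, ab, ia, ja, ija, t2, tb, tb', ta, bb', bb'2,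
    ab'15, b1, ab', haψ, htψ⟩ := exists_lifts2 E (u := ⟨S.u, hu⟩) (Subtype.ext S.u_sq) R
  have hzp : ∀ y : ↥(centralizer {S.x} ⊓ centralizer {S.z}), (y : G) ∈ zpowers S.x →
      y ∈ zpowers (⟨S.x, hx⟩ : ↥(centralizer {S.x} ⊓ centralizer {S.z})) := by
    intro y hy
    obtain ⟨k, hk⟩ := mem_zpowers_iff.1 hy
    exact mem_zpowers_iff.2 ⟨k, Subtype.ext hk⟩
  refine ⟨{
    i := i
    c := c
    b := b
    b' := b'
    a := a
    ix := cx i
    cx := cx c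
    bx := cx b
    b'x := cx b'
    ax := cx a
    iz := cz i
    cz := cz c
    bz := cz b
    b'z := cz b'
    az := cz a
    c3 := congrArg Subtype.val c3
    b5 := congrArg Subtype.val b5
    b'5 := congrArg Subtype.val b'5
    a5 := congrArg Subtype.val a5
    i2 := i2.imp (congrArg Subtype.val) (congrArg Subtype.val)
    i_ne := fun h => i1 (Subtype.ext h)
    i_nez := fun h => iz (Subtype.ext h)
    ib := congrArg Subtype.val ib
    ib' := congrArg Subtype.val ib'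
    cb := congrArg Subtype.val cb
    cb' := congrArg Subtype.val cb'
    cj := congrArg Subtype.val cj
    ab := congrArg Subtype.val ab
    ia := congrArg Subtype.val ia
    ja := ja.imp (congrArg Subtype.val) (congrArg Subtype.val)
    ija := ija.imp (congrArg Subtype.val) (congrArg Subtype.val)
    t2 := congrArg Subtype.val t2
    tb := congrArg Subtype.val tb
    tb' := congrArg Subtype.val tb'
    ta := congrArg Subtype.val ta
    bb' := bb'.imp (congrArg Subtype.val) (congrArg Subtype.val)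
    bb'2 := bb'2.imp (congrArg Subtype.val) (congrArg Subtype.val)
    ab'15 := ab'15.imp (congrArg Subtype.val) (congrArg Subtype.val)
    b_ne := fun h => b1 (hzp _ h)
    ab'_ne := fun h => ab' (hzp (a * b' * a⁻¹ * b'⁻¹) h) }, ⟨a.2, haψ⟩, ?_⟩
  rcases E.eq_or htψ with h | h
  · exact Or.inl (congrArg Subtype.val h)
  · exact Or.inr (congrArg Subtype.val h)


section

open Subgroup Cfsg
open Cfsg.Agent.MonsterU Cfsg.Agent.MFive
open Cfsg.Agent.LThreeMB (fr XX KChart.Cent KChart.pi KChart.chart)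
open Cfsg.Agent.MonsterU.Ch
open Cfsg.Agent.MonsterU.Lam2 (L2)
open Cfsg.Agent.MonsterX Cfsg.Agent.MonsterX.InstData
open Cfsg.Agent.MFive.Row (hc)
open Cfsg.Spor (Co1)
open Cfsg.Agent.H961.M5.CWord

/-- **`RelH` for a group with a chart**, with the images of `a` and `t`. -/
theorem exists_rel_chart2 {G : Type} [Group G] {Q : Subgroup G} {z : G} {eta : G → L2}
    {pi : Subgroup.centralizer ({z} : Set G) →* Co1} (h : Chart Q z eta pi) (S : Sit G)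
    (hx : S.x ∈ centralizer ({z} : Set G)) (hu : S.u ∈ centralizer ({z} : Set G)) (hz : S.z = z)
    (h0 : pi ⟨S.x, hx⟩ = QuotientGroup.mk (JData.e 0)) (h1 : pi ⟨S.u, hu⟩ = QuotientGroup.mk (JData.e 1)) :
    ∃ R : RelH S, (∃ ha : R.a ∈ centralizer ({z} : Set G), pi ⟨R.a, ha⟩ = wd wA) ∧
      (R.b * R.b' ^ 3 * R.b ^ 3 * R.b' = S.u ∨ R.b * R.b' ^ 3 * R.b ^ 3 * R.b' = S.u * S.z) := by
  have hp : Nat.Prime 5 := Nat.prime_five
  have ho : Odd 5 := by decide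
  subst hz
  have hx5 : (⟨S.x, hx⟩ : centralizer ({S.z} : Set G)) ^ 5 = 1 := by
    apply Subtype.ext
    show S.x ^ 5 = 1
    rw [← S.x_ord, pow_orderOf_eq_one]
  have hfr : fr (pi ⟨S.x, hx⟩) = 1 := by rw [h0, JData.e_zero]; exact Oct.fr_A
  let ψ : ↥(centralizer {S.x} ⊓ centralizer {S.z}) →* Co1 := pi.comp (Subgroup.inclusion inf_le_right)
  have hψ : ∀ c : ↥(centralizer {S.x} ⊓ centralizer {S.z}), ψ c = 1 ↔ (c : G) = 1 ∨ (c : G) = S.z := by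
    intro c
    have h2 : ψ c = 1 ↔ (c : G) ∈ Q := h.pi_eq_one _
    rw [h2]
    constructor
    · intro h3
      exact CpAutBFive.eq_of_fr h ho hx5 hfr h3 (mem_centralizer_singleton_iff.1 (mem_inf.1 c.2).1)
    · rintro (h3 | h3)
      · rw [h3]; exact Q.one_mem
      · rw [h3]; exact h.large.z_mem
  have hlift : ∀ w : List ℕ, sameB' w = true → ∃ c : ↥(centralizer {S.x} ⊓ centralizer {S.z}), ψ c = wd w := by
    intro w hw
    have h2 : wd w * pi ⟨S.x, hx⟩ = pi ⟨S.x, hx⟩ * wd w := by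
      have h3 := wd_eq hw
      rw [wd_append, wd_append, wd_single, ← h0] at h3
      exact h3
    obtain ⟨c, hcx, hcw⟩ := exists_lift h hp ho hx5 h2
    exact ⟨⟨c, mem_inf.2 ⟨mem_centralizer_singleton_iff.2 (congrArg Subtype.val hcx), c.2⟩⟩, hcw⟩
  obtain ⟨i, hi⟩ := hlift wI k29
  obtain ⟨c, hc⟩ := hlift wC k28
  obtain ⟨b, hb⟩ := hlift wB k26
  obtain ⟨b', hb'⟩ := hlift wB' k27
  obtain ⟨a, ha⟩ := hlift wA k25
  have huH : S.u ∈ centralizer {S.x} ⊓ centralizer {S.z} :=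
    mem_inf.2 ⟨mem_centralizer_singleton_iff.2 S.xu.symm, hu⟩
  have hψu : ψ ⟨S.u, huH⟩ = wd [1] := by rw [wd_single, ← h1]; rfl
  obtain ⟨R, ⟨haH, haψ⟩, ht⟩ := exists_relH2 S ψ hψ huH (i₀ := i) (c₀ := c) (b₀ := b) (b₀' := b') (a₀ := a) (by
    rw [hi, hc, hb, hb', ha, hψu]
    exact relK)
  refine ⟨R, ⟨(mem_inf.1 haH).2, ?_⟩, ht⟩
  rw [← ha, ← haψ]
  rfl


/-- **`RelH` for the Monster**, with the images of `a` and `t`. -/
theorem exists_rel2 (S : Sit ↥InstData.M.G) (hx : S.x ∈ Subgroup.centralizer ({KDone.K.z} : Set ↥InstData.M.G))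
    (hu : S.u ∈ Subgroup.centralizer ({KDone.K.z} : Set ↥InstData.M.G)) (hz : S.z = KDone.K.z)
    (h0 : KChart.pi hc ⟨S.x, hx⟩ = QuotientGroup.mk (JData.e 0))
    (h1 : KChart.pi hc ⟨S.u, hu⟩ = QuotientGroup.mk (JData.e 1)) :
    ∃ R : RelH S, (∃ ha : R.a ∈ centralizer ({KDone.K.z} : Set ↥InstData.M.G), KChart.pi hc ⟨R.a, ha⟩ = wd wA) ∧
      (R.b * R.b' ^ 3 * R.b ^ 3 * R.b' = S.u ∨ R.b * R.b' ^ 3 * R.b ^ 3 * R.b' = S.u * S.z) :=
  exists_rel_chart2 (KChart.chart KDone.lft hc) S hx hu hz h0 h1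

end

end Cfsg.Agent.H961.M5.C2
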