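import Mathlib

/-!
# Lifting `p`-subgroups through a homomorphism with kernel of order prime to `p` (helper961; task 2144 of helper777)
-/

set_option autoImplicit false

namespace Cfsg.Agent.H961.M5.Lift

open Subgroup

/-- a homomorphism is injective on a `p`-subgroup if the order of the kernel is prime to `p` -/
theorem inj_of {C D : Type*} [Group C] [Finite C] [Group D] {p : ℕ} [hp : Fact p.Prime] (f : C →* D)
    (hk : (Nat.card ↥f.ker).Coprime p) {T : Subgroup C} (hT : IsPGroup p ↥T) {a b : C} (ha : a ∈ T) (hb : b ∈ T)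
    (hab : f a = f b) : a = b := by
  have h1 : a⁻¹ * b ∈ f.ker := by rw [MonoidHom.mem_ker, map_mul, map_inv, hab, inv_mul_cancel]
  have h2 : a⁻¹ * b ∈ T := T.mul_mem (T.inv_mem ha) hb
  have h3 : orderOf (a⁻¹ * b) ∣ Nat.card ↥f.ker := by
    rw [← Subgroup.orderOf_mk _ h1]
    exact orderOf_dvd_natCard _
  obtain ⟨k, hk'⟩ := IsPGroup.iff_orderOf.1 hT ⟨_, h2⟩
  rw [Subgroup.orderOf_mk] at hk'
  have h4 : orderOf (a⁻¹ * b) ∣ 1 := by
    rw [← Nat.Coprime.gcd_eq_one (Nat.Coprime.pow_right k hk)]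
    exact Nat.dvd_gcd h3 (dvd_of_eq hk')
  have h5 := orderOf_eq_one_iff.1 (Nat.dvd_one.1 h4)
  exact inv_mul_eq_one.1 h5

theorem card_map {C D : Type*} [Group C] [Finite C] [Group D] {p : ℕ} [hp : Fact p.Prime] (f : C →* D)
    (hk : (Nat.card ↥f.ker).Coprime p) {T : Subgroup C} (hT : IsPGroup p ↥T) :
    Nat.card ↥(T.map f) = Nat.card ↥T := by
  symm
  apply Nat.card_congr
  refine Equiv.ofBijective (fun x : T => (⟨f x, x, x.2, rfl⟩ : T.map f)) ⟨?_, ?_⟩
  · intro x y h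
    exact Subtype.ext (inj_of f hk hT x.2 y.2 (congrArg Subtype.val h))
  · rintro ⟨_, x, hx, rfl⟩
    exact ⟨⟨x, hx⟩, rfl⟩

/-- **lifting a `p`-subgroup containing a given element** -/
theorem exists_sub {C D : Type*} [Group C] [Finite C] [Group D] {p : ℕ} [hp : Fact p.Prime] (f : C →* D)
    (hf : Function.Surjective f) (hk : (Nat.card ↥f.ker).Coprime p) {S : Subgroup D} {n : ℕ}
    (hS : Nat.card ↥S = p ^ n) {x : C} (hx : orderOf x = p) (hxS : f x ∈ S) :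
    ∃ T : Subgroup C, x ∈ T ∧ T.map f = S ∧ Nat.card ↥T = p ^ n := by
  have hD : Finite D := Finite.of_surjective f hf
  let P : Subgroup C := S.comap f
  have hPS : P.map f = S := Subgroup.map_comap_eq_self_of_surjective hf S
  have hx' : x ∈ P := hxS
  have hz : IsPGroup p ↥(zpowers (⟨x, hx'⟩ : ↥P)) := by
    refine IsPGroup.of_card (n := 1) ?_
    rw [Nat.card_zpowers, Subgroup.orderOf_mk, hx, pow_one]
  obtain ⟨T₀, hT₀⟩ := hz.exists_le_sylow
  -- the order of `P`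
  let g : ↥P →* ↥S := (f.comp P.subtype).codRestrict S (fun c => c.2)
  have hg : Function.Surjective g := by
    rintro ⟨s, hs⟩
    obtain ⟨c, rfl⟩ := hf s
    exact ⟨⟨c, hs⟩, rfl⟩
  have hcard : Nat.card ↥P = Nat.card ↥g.ker * p ^ n := by
    have h1 := Subgroup.index_ker g
    rw [MonoidHom.range_eq_top.2 hg, Subgroup.card_top] at h1
    rw [← hS, ← h1, Subgroup.card_mul_index]
  have hgk : (Nat.card ↥g.ker).Coprime p := by
    refine Nat.Coprime.coprime_dvd_left ?_ hk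
    have h1 : Nat.card ↥g.ker = Nat.card ↥(g.ker.map P.subtype) :=
      (card_map_of_injective (Subgroup.subtype_injective _)).symm
    rw [h1]
    refine card_dvd_of_le ?_
    rintro _ ⟨c, hc, rfl⟩
    rw [MonoidHom.mem_ker]
    have h2 : g c = 1 := hc
    exact congrArg Subtype.val h2
  have hT₀c : Nat.card ↥(T₀ : Subgroup ↥P) = p ^ n := by
    rw [T₀.card_eq_multiplicity, hcard]
    congr 1
    have h1 : Nat.card ↥g.ker ≠ 0 := Nat.card_pos.ne'
    rw [Nat.factorization_mul h1 (pow_ne_zero _ hp.out.ne_zero), Finsupp.add_apply, Nat.factorization_pow,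
      Finsupp.smul_apply, hp.out.factorization_self, smul_eq_mul, mul_one,
      Nat.factorization_eq_zero_of_not_dvd, zero_add]
    intro h2
    have h3 := Nat.Coprime.gcd_eq_one hgk
    rw [Nat.gcd_eq_right h2] at h3
    exact hp.out.one_lt.ne' h3
  have hTc : Nat.card ↥((T₀ : Subgroup ↥P).map P.subtype) = p ^ n := by
    rw [card_map_of_injective (Subgroup.subtype_injective _)]
    exact hT₀c
  have hTp : IsPGroup p ↥((T₀ : Subgroup ↥P).map P.subtype) := IsPGroup.of_card hTc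
  refine ⟨(T₀ : Subgroup ↥P).map P.subtype, ⟨⟨x, hx'⟩, hT₀ (mem_zpowers _), rfl⟩, ?_, hTc⟩
  apply Subgroup.eq_of_le_of_card_ge
  · rw [← hPS]
    refine Subgroup.map_mono ?_
    exact Subgroup.map_subtype_le _
  · rw [hS, card_map f hk hTp, hTc]

/-- **a Sylow subgroup over a group of order `p ^ n` with the properties of the image** -/
theorem exists_sub' {C D : Type*} [Group C] [Finite C] [Group D] {p : ℕ} [hp : Fact p.Prime] (f : C →* D)
    (hf : Function.Surjective f) (hk : (Nat.card ↥f.ker).Coprime p) {x : C} (hx : orderOf x = p) {n : ℕ}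
    (hS : ∃ S : Subgroup D, Nat.card ↥S = p ^ n ∧ f x ∈ S ∧ (∀ y ∈ S, y * f x = f x * y) ∧
      (∀ y ∈ S, (∀ t ∈ S, y * t = t * y) → y ∈ zpowers (f x)) ∧
      ∃ s₁ ∈ S, ∃ s₂ ∈ S, s₁ * s₂ * s₁⁻¹ * s₂⁻¹ ∉ zpowers (f x)) :
    ∃ T : Subgroup C, Nat.card ↥T = p ^ n ∧ x ∈ T ∧ (∀ y ∈ T, y * x = x * y) ∧
      (∀ y ∈ T, (∀ t ∈ T, y * t = t * y) → y ∈ zpowers x) ∧
      ∃ s₁ ∈ T, ∃ s₂ ∈ T, s₁ * s₂ * s₁⁻¹ * s₂⁻¹ ∉ zpowers x := by
  obtain ⟨S, hSc, hxS, hcx, hce, s₁, hs₁, s₂, hs₂, hs⟩ := hS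
  obtain ⟨T, hxT, hTS, hTc⟩ := exists_sub f hf hk hSc hx hxS
  have hTp : IsPGroup p ↥T := IsPGroup.of_card hTc
  have hmem : ∀ y ∈ T, f y ∈ S := fun y hy => by rw [← hTS]; exact mem_map_of_mem f hy
  refine ⟨T, hTc, hxT, ?_, ?_, ?_⟩
  · intro y hy
    refine inj_of f hk hTp (T.mul_mem hy hxT) (T.mul_mem hxT hy) ?_
    rw [map_mul, map_mul]
    exact hcx _ (hmem y hy)
  · intro y hy hyt
    have h1 : f y ∈ zpowers (f x) := by
      refine hce _ (hmem y hy) ?_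
      intro t ht
      rw [← hTS] at ht
      obtain ⟨t, ht, rfl⟩ := ht
      rw [← map_mul, hyt t ht, map_mul]
    obtain ⟨i, hi⟩ := mem_zpowers_iff.1 h1
    refine mem_zpowers_iff.2 ⟨i, ?_⟩
    exact inj_of f hk hTp (T.zpow_mem hxT i) hy (by rw [map_zpow, hi])
  · rw [← hTS] at hs₁ hs₂
    obtain ⟨t₁, ht₁, rfl⟩ := hs₁
    obtain ⟨t₂, ht₂, rfl⟩ := hs₂
    refine ⟨t₁, ht₁, t₂, ht₂, fun h => hs ?_⟩
    obtain ⟨i, hi⟩ := mem_zpowers_iff.1 h
    refine mem_zpowers_iff.2 ⟨i, ?_⟩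
    rw [← map_zpow, hi]
    simp only [map_mul, map_inv]

end Cfsg.Agent.H961.M5.Lift
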