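import Cfsg.Agent.BpSpor.MFiveTop
import Cfsg.Agent.H777.M5.Sit
import Cfsg.Agent.H961.M5.Lift

/-!
# The situation `Sit` for a group with a chart (helper961; task 2144 of helper777)
-/

set_option autoImplicit false
set_option maxRecDepth 100000

namespace Cfsg.Agent.H961.M5.T3Abs

open Subgroup Cfsg Cfsg.Agent.BpTab
open Cfsg.Agent.MonsterU Cfsg.Agent.MFive Cfsg.Agent.BpSpor.M5
open Cfsg.Agent.LThreeMB (fr Zx XX zD toCC toCC_inj toXX self CC be be_coe be_eq_one exists_XX_equiv)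
open Cfsg.Agent.MonsterU.Ch
open Cfsg.Agent.MonsterU.Lam2 (L2)
open Cfsg.Spor (Co1)
open Cfsg.Agent.H777.M5

/-- The Sylow 5-subgroup of `Co1` -/
def SylFive : Prop := ∀ s : Co1, orderOf s = 5 → fr s = 2 ^ 4 → ∃ S : Subgroup Co1, Nat.card S = 5 ^ 4 ∧ s ∈ S ∧
  (∀ y ∈ S, y * s = s * y) ∧ (∀ y ∈ S, (∀ t ∈ S, y * t = t * y) → y ∈ zpowers s) ∧
  ∃ s₁ ∈ S, ∃ s₂ ∈ S, s₁ * s₂ * s₁⁻¹ * s₂⁻¹ ∉ zpowers s

variable {G : Type} [Group G] {Q : Subgroup G} {z : G} {eta : G → L2}
  {pi : Subgroup.centralizer ({z} : Set G) →* Co1}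

theorem ker_coprime [Finite G] (h : Chart Q z eta pi) {p : ℕ} (hp : p.Prime) (ho : Odd p) :
    (Nat.card ↥pi.ker).Coprime p := by
  rw [Nat.coprime_comm, hp.coprime_iff_not_dvd]
  intro h5
  have h1 : Nat.card ↥pi.ker = Nat.card ↥(pi.ker.map (centralizer ({z} : Set G)).subtype) :=
    (card_map_of_injective (Subgroup.subtype_injective _)).symm
  rw [h1] at h5
  refine not_dvd h hp ho (h5.trans (card_dvd_of_le ?_))
  rintro _ ⟨c, hc, rfl⟩
  exact (h.pi_eq_one c).1 hc

/-- the element `x' = g⁻¹ x g` has fixed rank 4 -/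
theorem fr_conj_four [Finite G] (h : Chart Q z eta pi) (ht : TrNe 5 z pi) (I : CoFive) (h8 : HNEight z pi)
    {x u : centralizer ({z} : Set G)} {g : G} (hx : orderOf x = 5) (hfr : fr (pi x) = 1)
    (huz : (u : G) * z = z * u) (hux : (x : G) * u = u * x) (hne : (u : G) ≠ z) (hg : g * z * g⁻¹ = u)
    {x' : centralizer ({z} : Set G)} (hx' : (x' : G) = g⁻¹ * x * g) : orderOf x' = 5 ∧ fr (pi x') = 2 ^ 4 := by
  have hp : Nat.Prime 5 := Nat.prime_five
  have ho : Odd 5 := by decide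
  have hz2 : z * z = 1 := h.large.z_sq
  have hgx' : g * (x' : G) * g⁻¹ = x := by rw [hx']; group
  have hx'o : orderOf x' = 5 := by
    rw [← Subgroup.orderOf_coe, hx', orderOf_conj'', Subgroup.orderOf_coe, hx]
  have hu2 : (u : G) * u = 1 := by
    rw [← hg]
    calc g * z * g⁻¹ * (g * z * g⁻¹) = g * (z * z) * g⁻¹ := by group
      _ = 1 := by rw [hz2]; group
  have hu1 : (u : G) ≠ 1 := by
    intro h1
    apply h.large.z_ne
    calc z = g⁻¹ * (g * z * g⁻¹) * g := by group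
      _ = 1 := by rw [hg, h1]; group
  refine ⟨hx'o, ?_⟩
  rcases I.ranks (pi x') (orderOf_pi h hp ho hx'o) with h1 | h1 | h1
  · exfalso
    refine ht x x' u g hx hx'o hfr h1 huz hu2 hu1 hne hux ?_
    calc g * ((x' : G) * z) * g⁻¹ = (g * x' * g⁻¹) * (g * z * g⁻¹) := by group
      _ = x * u := by rw [hgx', hg]
  · exact h1
  · exfalso
    obtain ⟨h2, h3, -⟩ := simple_of_isoHN (h8 x' hx'o h1)
    obtain ⟨-, ⟨e⟩⟩ := exists_XX_equiv hgx'
    refine not_simple h ho hx (fun d hd hc => isolated h ht hx hfr d hd hc)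
      ((MulEquiv.isSimpleGroup_congr e).1 h2) ?_
    intro h4
    apply h3
    rw [eq_top_iff]
    intro a _
    rw [Subgroup.mem_center_iff]
    intro b
    apply e.injective
    rw [map_mul, map_mul]
    have h5 : e a ∈ Subgroup.center (XX (x : G)) := by rw [h4]; trivial
    exact Subgroup.mem_center_iff.1 h5 (e b)

/-- a 5-group in `C(z)` has order at most `5 ^ 4` -/
theorem card_le [Finite G] (h : Chart Q z eta pi) (hco : ¬ 5 ^ 5 ∣ Nat.card Co1) {R : Subgroup G} (hR : IsPGroup 5 ↥R)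
    (hRz : R ≤ centralizer ({z} : Set G)) : Nat.card ↥R ≤ 5 ^ 4 := by
  have hp : Nat.Prime 5 := Nat.prime_five
  have hpf : Fact (Nat.Prime 5) := ⟨hp⟩
  let R' : Subgroup ↥(centralizer ({z} : Set G)) := R.subgroupOf _
  have e : ↥R' ≃* ↥R := subgroupOfEquivOfLe hRz
  have hR' : IsPGroup 5 ↥R' := hR.of_equiv e.symm
  have h1 := Lift.card_map pi (ker_coprime h hp (by decide)) hR'
  rw [Nat.card_congr e.toEquiv] at h1
  have hfc : Finite Co1 := Finite.of_surjective pi h.pi_surj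
  have h2 : Nat.card ↥R ∣ Nat.card Co1 := by rw [← h1]; exact card_subgroup_dvd_card _
  obtain ⟨k, hk⟩ := IsPGroup.iff_card.1 hR
  rw [hk] at h2 ⊢
  by_contra hlt
  have h3 : 4 < k := by
    by_contra hk4
    exact hlt (Nat.pow_le_pow_right (by norm_num) (by omega))
  exact hco ((pow_dvd_pow 5 (by omega)).trans h2)

/-- **`Sit` for a group with a chart.** -/
theorem exists_sit_chart [Finite G] (h : Chart Q z eta pi) (ht : TrNe 5 z pi) (I : CoFive)
    (hJ : ∀ s : Co1, orderOf s = 5 → fr s = 1 → Spor.IsoJ2 (XX s)) (h8 : HNEight z pi)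
    (hcard : ¬ 5 ^ 10 ∣ Nat.card G) (hco : ¬ 5 ^ 5 ∣ Nat.card Co1) (A1 : SylFive)
    {x u : centralizer ({z} : Set G)} {g : G} (hx : orderOf x = 5) (hfr : fr (pi x) = 1)
    (hxu : (x : G) * u = u * x) (hne : (u : G) ≠ z) (hg : g * z * g⁻¹ = u)
    (A2 : ∀ R : Subgroup Co1, (∀ y ∈ R, y * pi x = pi x * y) → (∀ y ∈ R, y * pi u = pi u * y) → Nat.card R ≠ 125) :
    ∃ S : Sit G, S.x = x ∧ S.u = u ∧ S.z = z := by
  have hp : Nat.Prime 5 := Nat.prime_five
  have hpf : Fact (Nat.Prime 5) := ⟨hp⟩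
  have ho : Odd 5 := by decide
  have hz2 : z * z = 1 := h.large.z_sq
  have hx5 : x ^ 5 = 1 := by rw [← hx, pow_orderOf_eq_one]
  have hxz : (x : G) * z = z * x := mem_centralizer_singleton_iff.1 x.2
  have huz : (u : G) * z = z * u := mem_centralizer_singleton_iff.1 u.2
  have hxo : orderOf (x : G) = 5 := by rw [Subgroup.orderOf_coe, hx]
  have hu2 : (u : G) * u = 1 := by
    rw [← hg]
    calc g * z * g⁻¹ * (g * z * g⁻¹) = g * (z * z) * g⁻¹ := by group
      _ = 1 := by rw [hz2]; group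
  have hJx := hJ _ (orderOf_pi h hp ho hx) hfr
  obtain ⟨f1, f2, f3, f4⟩ := j2_facts hJx
  obtain ⟨N, hN⟩ := exists_rad h (by norm_num) hx hfr (fun d hd hc => isolated h ht hx hfr d hd hc) f1 f2
  -- the homomorphism to `J₂`
  let sw : ↥(centralizer ({(x : G)} : Set G) ⊓ centralizer ({z} : Set G)) ≃* CC z (x : G) :=
    MulEquiv.subgroupCongr (inf_comm _ _)
  let f : ↥(centralizer ({(x : G)} : Set G) ⊓ centralizer ({z} : Set G)) →* XX (pi x) :=
    ((QuotientGroup.mk' (Zx (pi x))).comp (be pi x)).comp sw.toMonoidHom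
  have hfs : Function.Surjective f :=
    ((QuotientGroup.mk'_surjective (Zx (pi x))).comp (be_surj h hp ho hx5)).comp sw.surjective
  have hfk : ∀ c : ↥(centralizer ({(x : G)} : Set G) ⊓ centralizer ({z} : Set G)),
      f c = 1 ↔ ∃ k : ℕ, (c : G) = (x : G) ^ k ∨ (c : G) = (x : G) ^ k * z := by
    intro c
    have hcx : (c : G) * x = x * c := mem_centralizer_singleton_iff.1 (Subgroup.mem_inf.1 c.2).1
    have hcz : (c : G) * z = z * c := mem_centralizer_singleton_iff.1 (Subgroup.mem_inf.1 c.2).2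
    have h0 : f c = 1 ↔ ∃ i : ℤ, (pi x) ^ i = pi ⟨c, mem_centralizer_singleton_iff.2 hcz⟩ := by
      have h1 : f c = 1 ↔ be pi x (sw c) ∈ Zx (pi x) := QuotientGroup.eq_one_iff _
      rw [h1]
      constructor
      · intro h2
        obtain ⟨i, hi⟩ := Subgroup.mem_zpowers_iff.1 h2
        exact ⟨i, congrArg Subtype.val hi⟩
      · rintro ⟨i, hi⟩
        exact Subgroup.mem_zpowers_iff.2 ⟨i, Subtype.ext hi⟩
    rw [h0]
    constructor
    · rintro ⟨i, hi⟩
      obtain ⟨k, hk⟩ : ∃ k : ℕ, x ^ k = x ^ i := by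
        have h1 : x ^ i ∈ zpowers x := ⟨i, rfl⟩
        rw [← mem_powers_iff_mem_zpowers] at h1
        exact h1
      have h3 : pi ((x ^ k)⁻¹ * ⟨c, mem_centralizer_singleton_iff.2 hcz⟩) = 1 := by
        rw [hk, map_mul, map_inv, map_zpow, hi, inv_mul_cancel]
      have h4 := (h.pi_eq_one _).1 h3
      have hcx' : Commute ((x : G) ^ k)⁻¹ (x : G) := ((Commute.refl (x : G)).pow_left k).inv_left
      have h6 := CpAutBFive.eq_of_fr h ho hx5 hfr h4 (by
        show ((x : G) ^ k)⁻¹ * c * x = x * (((x : G) ^ k)⁻¹ * c)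
        rw [mul_assoc, hcx, ← mul_assoc, hcx'.eq, mul_assoc])
      refine ⟨k, ?_⟩
      rcases h6 with h5 | h5
      · left
        have h6 : ((x : G) ^ k)⁻¹ * (c : G) = 1 := h5
        rw [inv_mul_eq_one] at h6
        exact h6.symm
      · right
        have h6 : ((x : G) ^ k)⁻¹ * (c : G) = z := h5
        rw [inv_mul_eq_iff_eq_mul] at h6
        exact h6
    · rintro ⟨k, hk⟩
      refine ⟨k, ?_⟩
      rw [zpow_natCast, ← map_pow]
      rw [h.pi_eq]
      rcases hk with hk | hk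
      · have e1 : ((x ^ k : centralizer ({z} : Set G)) : G)⁻¹ * (c : G) = 1 := by
          rw [hk]; exact inv_mul_cancel _
        rw [e1]
        exact Q.one_mem
      · have e1 : ((x ^ k : centralizer ({z} : Set G)) : G)⁻¹ * (c : G) = z := by
          rw [hk]; exact inv_mul_cancel_left _ _
        rw [e1]
        exact h.large.z_mem
  -- odd powers
  have hodd : ∀ k : ℕ, ((x : G) ^ k) * ((x : G) ^ k) = 1 → (x : G) ^ k = 1 := by
    intro k hk
    have h1 : ((x : G) ^ k) ^ 5 = 1 := by rw [← pow_mul, mul_comm, pow_mul, coe_pow hx5, one_pow]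
    calc (x : G) ^ k = ((x : G) ^ k) ^ 5 * ((((x : G) ^ k) * ((x : G) ^ k)) * (((x : G) ^ k) * ((x : G) ^ k)))⁻¹ := by
          group
      _ = 1 := by rw [h1, hk]; group
  -- the subgroup of order `5 ^ 4`
  have hx'z : g⁻¹ * (x : G) * g ∈ centralizer ({z} : Set G) := by
    rw [mem_centralizer_singleton_iff]
    calc g⁻¹ * (x : G) * g * z = g⁻¹ * (x * (g * z * g⁻¹)) * g := by group
      _ = g⁻¹ * ((g * z * g⁻¹) * x) * g := by rw [hg, hxu]
      _ = z * (g⁻¹ * x * g) := by group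
  obtain ⟨hx'o, hx'f⟩ := fr_conj_four h ht I h8 hx hfr huz hxu hne hg (x' := ⟨_, hx'z⟩) rfl
  obtain ⟨T, hTc, hxT, hTx, hTcen, t₁, ht₁, t₂, ht₂, htt⟩ := Lift.exists_sub' pi h.pi_surj
    (ker_coprime h hp ho) hx'o (A1 _ (orderOf_pi h hp ho hx'o) hx'f)
  let φ : centralizer ({z} : Set G) →* G := (MulAut.conj g).toMonoidHom.comp (centralizer ({z} : Set G)).subtype
  have hφ : ∀ c, φ c = g * (c : G) * g⁻¹ := fun c => rfl
  have hφi : Function.Injective φ := (MulAut.conj g).injective.comp (Subgroup.subtype_injective _)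
  have hφx : φ ⟨_, hx'z⟩ = (x : G) := by
    show g * (g⁻¹ * (x : G) * g) * g⁻¹ = x
    group
  have hmem : ∀ c, c ∈ zpowers (⟨_, hx'z⟩ : centralizer ({z} : Set G)) ↔ φ c ∈ zpowers (x : G) := by
    intro c
    rw [mem_zpowers_iff, mem_zpowers_iff]
    constructor
    · rintro ⟨i, rfl⟩
      exact ⟨i, by rw [map_zpow, hφx]⟩
    · rintro ⟨i, hi⟩
      refine ⟨i, hφi ?_⟩
      rw [map_zpow, hφx, hi]
  refine ⟨{
    x := x
    z := z
    u := u
    x_ord := hxo
    z_sq := hz2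
    z_ne := h.large.z_ne
    u_sq := hu2
    xz := hxz
    xu := hxu
    uz := huz
    N := N.map (centralizer ({(x : G)} : Set G)).subtype
    N_le := map_subtype_le _
    N_odd := by
      rw [card_map_of_injective (Subgroup.subtype_injective _)]
      exact hN.oN
    N_conj := by
      rintro c hc _ ⟨n, hn, rfl⟩
      exact ⟨_, hN.nN.conj_mem n hn ⟨c, hc⟩, rfl⟩
    x_N := ⟨_, hN.xN, rfl⟩
    N_sup := by
      intro c hc
      obtain ⟨n, hn, d, hd, hcd⟩ := hN.sup ⟨c, hc⟩
      refine ⟨n, ⟨n, hn, rfl⟩, d, mem_centralizer_singleton_iff.1 d.2, congrArg Subtype.val hd,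
        congrArg Subtype.val hcd⟩
    J := XX (pi x)
    J_simple := f1
    J_card := by
      obtain ⟨e⟩ := hJx
      rw [Nat.card_congr e.toEquiv, Cfsg.Agent.J2Sylow.SporSylow.card_J2]
    f := f
    f_surj := hfs
    f_ker := hfk
    f_u := by
      intro c hc h1
      obtain ⟨k, hk | hk⟩ := (hfk c).1 h1
      · rw [hc] at hk
        have h2 := hodd k (by rw [← hk]; exact hu2)
        rw [h2] at hk
        apply h.large.z_ne
        calc z = g⁻¹ * (g * z * g⁻¹) * g := by group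
          _ = 1 := by rw [hg, hk]; group
      · rw [hc] at hk
        have h2 : (x : G) ^ k = u * z := by rw [hk, mul_assoc, hz2, mul_one]
        have h3 := hodd k (by
          rw [h2]
          calc (u : G) * z * (u * z) = u * (z * u) * z := by group
            _ = (u * u) * (z * z) := by rw [← huz]; group
            _ = 1 := by rw [hu2, hz2, mul_one])
        rw [h3, one_mul] at hk
        exact hne hk
    no125 := by
      intro R hRx hRz hRu hR
      have hRp : IsPGroup 5 ↥R := IsPGroup.of_card (n := 3) (by rw [hR]; norm_num)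
      let R' : Subgroup ↥(centralizer ({z} : Set G)) := R.subgroupOf _
      have e : ↥R' ≃* ↥R := subgroupOfEquivOfLe hRz
      have hR' : IsPGroup 5 ↥R' := hRp.of_equiv e.symm
      have h1 := Lift.card_map pi (ker_coprime h hp (by decide)) hR'
      rw [Nat.card_congr e.toEquiv, hR] at h1
      refine A2 (R'.map pi) ?_ ?_ h1
      · rintro _ ⟨c, hc, rfl⟩
        rw [← map_mul, ← map_mul]
        congr 1
        exact Subtype.ext (mem_centralizer_singleton_iff.1 (hRx (mem_subgroupOf.1 hc)))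
      · rintro _ ⟨c, hc, rfl⟩
        rw [← map_mul, ← map_mul]
        congr 1
        exact Subtype.ext (mem_centralizer_singleton_iff.1 (hRu (mem_subgroupOf.1 hc)))
    S := T.map φ
    S_x := by
      rintro _ ⟨c, hc, rfl⟩
      rw [mem_centralizer_singleton_iff, ← hφx, ← map_mul, hTx c hc, map_mul]
    S_u := by
      rintro _ ⟨c, hc, rfl⟩
      rw [mem_centralizer_singleton_iff, hφ, ← hg]
      have hcz : (c : G) * z = z * c := mem_centralizer_singleton_iff.1 c.2
      calc g * (c : G) * g⁻¹ * (g * z * g⁻¹) = g * (c * z) * g⁻¹ := by group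
        _ = g * (z * c) * g⁻¹ := by rw [hcz]
        _ = g * z * g⁻¹ * (g * c * g⁻¹) := by group
    S_card := by
      rw [card_map_of_injective hφi]
      exact hTc
    S_center := by
      rintro _ ⟨c, hc, rfl⟩ hs
      rw [← hmem]
      refine hTcen c hc ?_
      intro t ht'
      apply hφi
      rw [map_mul, map_mul]
      exact hs _ ⟨t, ht', rfl⟩
    S_nab := by
      refine ⟨φ t₁, ⟨t₁, ht₁, rfl⟩, φ t₂, ⟨t₂, ht₂, rfl⟩, ?_⟩
      rw [← map_inv, ← map_inv, ← map_mul, ← map_mul, ← map_mul, ← hmem]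
      exact htt
    S_max := by
      intro R hR hRx hRu
      have hRp : IsPGroup 5 ↥(R.map (MulAut.conj g⁻¹).toMonoidHom) := hR.map _
      have h1 := card_le h hco hRp (by
        rintro _ ⟨r, hr, rfl⟩
        rw [mem_centralizer_singleton_iff]
        have hru : r * (u : G) = u * r := mem_centralizer_singleton_iff.1 (hRu hr)
        show g⁻¹ * r * g⁻¹⁻¹ * z = z * (g⁻¹ * r * g⁻¹⁻¹)
        calc g⁻¹ * r * g⁻¹⁻¹ * z = g⁻¹ * (r * (g * z * g⁻¹)) * g := by group
          _ = g⁻¹ * ((g * z * g⁻¹) * r) * g := by rw [hg, hru]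
          _ = z * (g⁻¹ * r * g⁻¹⁻¹) := by group)
      rwa [card_map_of_injective (MulAut.conj g⁻¹).injective] at h1
    not_dvd := hcard }, rfl, rfl, rfl⟩

end Cfsg.Agent.H961.M5.T3Abs
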